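import Cfsg.Agent.TwC.Lev

/-!
Squares of conjugacy classes in twisted groups of relative rank two.
-/

set_option autoImplicit false

namespace Cfsg.Agent.TwC

open Cfsg.Lie Cfsg.Lie.ChevalleyDatum Cfsg.Agent.Chev Cfsg.Agent.Tw Cfsg.Agent.TwM Equiv Cfsg.Agent.Stein Cfsg.Agent.SL2

variable {D : ChevalleyDatum} {C : Cert D} {F : Type*} [Field F] {G : Type*} [Group G] {S : Sys C F G}
  {T : Stb S} {K : Subgroup G} {a b : Nd D} {E : Type*} [Field E] [Finite E] {L : SL2Sys E G} {ι : E →+* F}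

variable (T K) in
/-- the standing assumptions -/
structure Setup (a b : Nd D) (L : SL2Sys E G) (ι : E →+* F) : Prop where
  inj : Function.Injective S.φ
  bn : T.BN K
  fix : ∀ g, T.σ g = g → g ∈ K
  span : ∀ i, ∃ x ∈ T.Xp K i, S.cd (C.sp i) x = 1
  ch : Chain T a b
  lv : Lv T b L ι
  tor : ∀ n ∈ K, S.Over n (sw T a) → ∃ t, t ≠ 0 ∧ ∃ ξ, IsM T K a (n * L.h t) ξ

namespace Setup

variable (h : Setup T K a b L ι)
include h

theorem tr_base {d : Perm (Rt D)} (hd : Red T b d) {n z : G} (hn : n ∈ K) (hw : S.Over n d) (hz : z ∈ K) (hz' : z ∈ S.H) :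
    ∃ A : SLT E, Tr T K b n (L.fromSL2 A * z) ∧ (Hr T K b (d * sw T a) → A.1 1 0 ≠ 0) := by
  have hK := h.bn.toGood
  have h0 := cj_mul' hd.fix (cj_sw a)
  obtain ⟨m, h1, h2, v, h3, h4⟩ : ∃ m ∈ K, S.Over m (d * sw T a) ∧ ∃ v, Tri S K m v ∧
      (Hr T K b (d * sw T a) → v ∉ Qm T K b) := by
    by_cases e : Hr T K b (d * sw T a)
    · obtain ⟨m, h1, h2, v, h3, h4⟩ := e
      exact ⟨m, h1, h2, v, h3, fun _ => h4⟩
    · obtain ⟨m, h1, h2, v, h3⟩ := exists_tri h.bn (mul_mem hd.mem (sw_W a)) h0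
      exact ⟨m, h1, h2, v, h3, fun h => (e h).elim⟩
  obtain ⟨t, ht, ξ, h5⟩ := h.tor (m⁻¹ * n * z⁻¹) (mul_mem (mul_mem (inv_mem h1) hn) (inv_mem hz)) (by
    simpa [sw_inv] using (h2.inv.mul hw).mul_H (inv_mem hz'))
  obtain ⟨x, hx, y, hy, x', hx', h6, h7⟩ := (h3.step hK h1 h2 h0 (pos_mul_sw hd.mem hd.fix (h.ch.neg hd)) h5).tr hK b
  obtain ⟨s, rfl⟩ := h.lv.mem_Xp hK hx
  obtain ⟨r, rfl⟩ := h.lv.mem_Xm hK hy
  obtain ⟨s', rfl⟩ := h.lv.mem_Xp hK hx'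
  refine ⟨sl2X E s * sl2Y E r * sl2X E s' * ((sl2Std E).h t)⁻¹, ?_, fun e => ?_⟩
  · have := h6.move (n' := n) (one_mem _) (H_mem_Lk (mul_mem (inv_mem (h.lv.h_memK hK t)) hz)
      (mul_mem (inv_mem (h.lv.h_mem hK ht)) hz')) (one_mem _) (one_mem _) (by group)
    simpa only [map_mul, map_inv, ψ_X, ψ_Y, ψ_h, one_mul, mul_assoc] using this
  · have h8 : r ≠ 0 := by
      rintro rfl
      exact h7 (fun e' => h4 e ((mul_mem_cancel_right (Xm_le_Qm h.ch.ne h5.2.2.1)).1 e')) L.y_zero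
    simp only [sl_mul_val, sl_inv_val, mul_ap, h_val ht]
    simp [X_val, Y_val, h8, ht]

variable [Finite G] {x z : G} {δ : Eˣ}

theorem main (hx : x ∈ Lk T K b) (hf : Fpf T K b x) (hz : z ∈ K) (hz' : z ∈ S.H) (hδ : Ac L z δ)
    (hG : ∀ A : SLT E, A.1 1 0 ≠ 0 → ∃ t, Sq (Lk T K b) x (L.fromSL2 (sl2X E t * A) * z))
    (hR : ∀ d, Red T b d → d ∉ C.WJ (T.orb a) → d ≠ C.w0 Set.univ * sw T b → Hr T K b (d * sw T a))
    (hβ : ∀ n ∈ K, S.Over n (C.w0 Set.univ * sw T b) → Red T b (C.w0 Set.univ * sw T b) → ∀ M,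
      ∃ l, Tr T K b n l ∧ Sq (Lk T K b) x (l * L.fromSL2 M)) {g : G} (hg : g ∈ K) (h1 : g ≠ 1) : Sq K x g := by
  have hK := h.bn.toGood
  have key : ∀ d, Red T b d → ∀ n ∈ K, S.Over n d → ∀ M : SLT E, (M.1 1 0 ≠ 0 ∨ d ∉ C.WJ (T.orb a)) → ∀ q ∈ Qp T K b,
      Sq K x (n * L.fromSL2 M * q) := by
    intro d hd n hn hw M hM q hq
    by_cases e : d = C.w0 Set.univ * sw T b
    · obtain ⟨l, h2, h3⟩ := hβ n hn (e ▸ hw) (e ▸ hd) M
      exact h2.win hx hf (h.lv.ψ_mem hK M) hq h3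
    obtain ⟨h2, h3⟩ := (h.ch.dichotomy h.lv.hs hd).resolve_left e
    obtain ⟨A, h4, h5⟩ := h.tr_base hd hn hw hz hz'
    obtain ⟨t, ht⟩ := exists_low (A := A) (N := dgc δ M) (hM.symm.imp (fun e' => h5 (hR d hd e' e)) fun e' => by
      simpa [dgc_val] using e')
    obtain ⟨s, hs⟩ := hG _ ht
    have h6 := h.lv.x_mem hK s
    have h7 := h.lv.x_mem hK ((δ⁻¹ : Eˣ) * t)
    have h8 := (h4.move (n' := n) (Xp_le_Lk h6) (one_mem _) (one_mem _) (inv_mem (show n⁻¹ * L.x s * n ∈ Qp T K b from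
      ⟨hw.acts.inv_conj_mem h3 h6.1, K.mul_mem (K.mul_mem (K.inv_mem hn) h6.2) hn⟩)) (by group)).move (n' := n) (one_mem _)
      (Xp_le_Lk h7) (inv_mem (show n * L.x _ * n⁻¹ ∈ Qp T K b from
      ⟨hw.acts.conj_mem h2 h7.1, K.mul_mem (K.mul_mem hn h7.2) (K.inv_mem hn)⟩)) (one_mem _) (by group)
    refine h8.win hx hf (h.lv.ψ_mem hK M) hq ?_
    convert hs using 1
    rw [map_mul, map_mul, map_mul, ← hδ, ← ψ_X (L := L) (_ * t), ← dgc_X, ← hδ.inv, ψ_X s]; group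
  obtain ⟨k, hk, h2⟩ := h.ch.exists_notMem_P h.bn h.inj h.span hg h1
  have h3 := mul_mem (mul_mem hk hg) (inv_mem hk)
  obtain ⟨k', hk', d, hd, n, hn, hw, l, hl, q, hq, e⟩ := exists_red hK h.fix h3 h2
  obtain ⟨c, hc, hc', M, rfl⟩ := h.lv.decomp hK hl
  refine Sq.conj hk (Sq.conj hk' ?_)
  rw [e, ← mul_assoc]
  by_cases e' : M.1 1 0 ≠ 0 ∨ d ∉ C.WJ (T.orb a)
  · exact key d hd _ (mul_mem hn hc) (hw.mul_H hc') M e' q hq
  push Not at e'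
  obtain ⟨k, hk, d', hd', h4, n', hn', hw', y, hy, q', hq', e''⟩ := h.ch.exists_long hK
    (mul_mem (mul_mem (mul_mem hn hc) (h.lv.ψ_mem hK M).2) hq.2) ((show d = sw T a from Stb.eq_w0_orb e'.2 hd.fix hd.ne) ▸
      ((hw.mul_H hc').cell.mul_B (h.lv.ψ_mem_B hK e'.1).1).mul_B (S.Up_le_B (Qp_le_Uk hq).1))
  obtain ⟨t, rfl⟩ := h.lv.mem_Xp hK hy
  exact Sq.conj hk (e'' ▸ ψ_X (L := L) t ▸ key d' hd' n' hn' hw' _ (Or.inr h4) q' hq')

omit [Finite G] in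
theorem sq_of_trace {y : SLT E} {c : G} {γ : Eˣ} (hγ : Ac L c γ) (hy : (y.1 * dg (γ : E)).trace ^ 2 ≠ 4 * γ)
    {A : SLT E} (hA : (A.1 * dg ((γ * γ : Eˣ) : E)).trace ^ 2 ≠ 4 * (γ * γ)) :
    Sq (Lk T K b) (L.fromSL2 y * c) (L.fromSL2 A * (c * c)) := by
  obtain ⟨M, N, e, h1, h2, h3, h4⟩ := exists_factor γ.ne_zero (by rw [Matrix.det_mul, A.2, det_dg]; simp) hA
    (y.1 * dg (γ : E)).trace
  have h5 : (y.1 * dg (γ : E)).det = γ := by rw [Matrix.det_mul, y.2, det_dg, one_mul]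
  obtain ⟨P, rfl⟩ := exists_sl_conj (h5.symm ▸ hy) h1.symm (h5.trans h2.symm)
  obtain ⟨Q, rfl⟩ := exists_sl_conj (h5.symm ▸ hy) h3.symm (h5.trans h4.symm)
  refine ⟨_, h.lv.ψ_mem h.bn.toGood P, _, h.lv.ψ_mem h.bn.toGood Q, ?_⟩
  rw [show A = P * y * dgc γ (P⁻¹ * Q * y * dgc γ Q⁻¹) from eq_of_mul_dg (γ * γ).ne_zero (by
    rw [e, Units.val_mul, dg_mul, sl_mul_val, sl_mul_val, Matrix.mul_assoc (P.1 * y.1), ← Matrix.mul_assoc _ (dg _) (dg _),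
      dgc_mul, sl_mul_val, sl_mul_val, sl_mul_val, Matrix.mul_assoc _ _ (dg _), Matrix.mul_assoc _ _ (dg _), dgc_mul]
    simp only [Matrix.mul_assoc]), map_mul, map_mul, ← hγ, map_mul, map_mul, map_mul, ← hγ, map_inv, map_inv]
  group

theorem main_big (hE : 4 < Nat.card E) {y : SLT E} {c l : G} {γ : Eˣ} (hc : c ∈ K) (hc' : c ∈ S.H) (hγ : Ac L c γ)
    (hy : (y.1 * dg (γ : E)).trace ^ 2 ≠ 4 * γ) (hf : Fpf T K b (L.fromSL2 y * c))
    (hd : (C.w0 Set.univ * sw T b) (C.sp b) = C.sp b)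
    (hC : ∀ n ∈ K, S.Over n (C.w0 Set.univ * sw T b) → Ac L n 1 → Tr T K b n 1)
    (hl : l ∈ K) (hl' : l ∈ S.H) (hl1 : Ac L l 1) (hl2 : Sq (Lk T K b) (L.fromSL2 y * c) l)
    {g : G} (hg : g ∈ K) (h1 : g ≠ 1) : Sq K (L.fromSL2 y * c) g := by
  have hK := h.bn.toGood
  have hR : ∀ d, Red T b d → d ∉ C.WJ (T.orb a) → Hr T K b (d * sw T a) := fun d hd e => by
    obtain ⟨s, h2, h3⟩ : ∃ s : E, s ≠ 0 ∧ s ≠ 1 := by
      have := Fintype.ofFinite E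
      classical
      obtain ⟨s, -, hs⟩ := Finset.exists_mem_notMem_of_card_lt_card (s := {0, 1}) (t := (Finset.univ : Finset E))
        (Finset.card_le_two.trans_lt (by rw [Finset.card_univ, ← Nat.card_eq_fintype_card]; omega))
      exact ⟨s, by simpa using hs⟩
    refine hr_of_two h.bn h.ch.ne h.ch.cover ⟨_, h.lv.y_mem hK 1, _, h.lv.y_mem hK s, h.lv.y_ne one_ne_zero, h.lv.y_ne h2,
      fun e => h.lv.y_ne (sub_ne_zero.2 h3) ?_⟩ (mul_mem hd.mem (sw_W a)) (cj_mul' hd.fix (cj_sw a))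
      fun e' => e ((mul_mem_cancel_right (C.w0_mem _)).1 e')
    rw [sub_eq_add_neg, L.y_add, L.y_neg, e, mul_inv_cancel]
  refine h.main (mul_mem (h.lv.ψ_mem hK y) (H_mem_Lk hc hc')) hf (mul_mem hc hc) (mul_mem hc' hc') (hγ.mul hγ)
    (fun A hA => ?_) (fun d h1 h2 _ => hR d h1 h2) (fun n hn hw hd' M => ?_) hg h1
  · obtain ⟨t, ht⟩ := exists_lin (by omega) (B := A.1 * dg ((γ * γ : Eˣ) : E)) (by
      simp only [mul_ap]; simpa [dg] using hA) (4 * (γ * γ))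
    exact ⟨t, h.sq_of_trace hγ hy (by rwa [sl_mul_val, Matrix.mul_assoc])⟩
  obtain ⟨e, he⟩ := h.lv.exists_ac hK hn hw hd
  by_cases h2 : IsScal (dg (e : E) * M.1)
  · have h3 : M.1 1 0 = 0 ∧ M.1 0 1 = 0 := by
      have := h2.1; have := h2.2.1; simp only [mul_ap] at *; simp_all [dg]
    have h4 := (h.lv.ψ_mem_B hK h3.1).2 h3.2
    have h5 := (h.lv.ψ_mem hK M)
    have h6 : Ac L (n * L.fromSL2 M) 1 := fun N => by
      have h6 : N = dgc e (M * N * M⁻¹) := eq_of_mul_dg e.ne_zero (by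
        rw [dgc_mul, sl_mul_val, sl_mul_val, ← Matrix.mul_assoc, ← Matrix.mul_assoc, ← h2.comm, Matrix.mul_assoc,
          Matrix.mul_assoc, ← sl_mul_val]; simp)
      rw [dgc_one]
      nth_rw 2 [h6]
      rw [← he, map_mul, map_mul, map_inv]; group
    have h7 := hC _ (mul_mem (mul_mem hn h5.2) (inv_mem hl)) ((hw.mul_H h4).mul_H (inv_mem hl'))
      (by simpa using h6.mul hl1.inv)
    exact ⟨_, h7.move (n' := n) (one_mem _) (mul_mem (H_mem_Lk hl hl') (inv_mem h5)) (one_mem _) (one_mem _) (by group),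
      by simpa using hl2⟩
  · obtain ⟨A, h3, h4⟩ := h.tr_base hd' hn hw (mul_mem hc hc) (mul_mem hc' hc')
    have h5 := h4 (hR _ hd' fun e => (sw_Rp (sp_Rp b)).1 (by
      have := h.ch.c2
      rwa [show sw T a = _ from (Stb.eq_w0_orb e hd'.fix hd'.ne).symm, hd] at this))
    obtain ⟨P, hP⟩ := exists_quad hE (B := A.1 * dg ((γ * γ * e⁻¹ : Eˣ) : E)) (by
      simp only [mul_ap]; simpa [dg] using h5) h2 (4 * (γ * γ))
    refine ⟨_, h3.move (n' := n) (h.lv.ψ_mem hK P) (h.lv.ψ_mem hK (dgc e⁻¹ P⁻¹)) (one_mem _) (one_mem _) (by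
      rw [← he.inv, map_inv]; group), ?_⟩
    have h6 := h.sq_of_trace hγ hy (A := P * A * dgc (γ * γ) (dgc e⁻¹ P⁻¹ * M)) (by
      convert hP using 3
      rw [sl_mul_val, Matrix.mul_assoc, dgc_mul, sl_mul_val, sl_mul_val, Units.val_mul _ e⁻¹, dg_mul]
      simp only [Matrix.mul_assoc]
      rw [← Matrix.mul_assoc (dg _) (P⁻¹).1, ← dgc_mul, Matrix.mul_assoc, ← Matrix.mul_assoc (dg _) (dg _), ← dg_mul]
      simp [dg, ← Matrix.one_fin_two])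
    convert h6 using 1
    rw [map_mul, map_mul, ← hγ.mul hγ, map_mul]; group

end Setup

end Cfsg.Agent.TwC
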