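import Cfsg.Agent.TwC.Tools
import Cfsg.Agent.Tw.OutF4

/-!
Squares of conjugacy classes in the large Ree groups.
-/

set_option autoImplicit false

namespace Cfsg.Agent.TwC

open Cfsg.Lie Cfsg.Lie.ChevalleyDatum Cfsg.Agent.Chev Cfsg.Agent.Tw Cfsg.Agent.TwM Equiv Cfsg.Agent.Stein Cfsg.Agent.SL2

theorem tor_id {D : ChevalleyDatum} {C : Cert D} {F : Type*} [Field F] {G : Type*} [Group G] {S : Sys C F G}
    (hφ : Function.Injective S.φ) (r r' q q' : Rt D) (s s' t t' : Fˣ) :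
    S.h r (s⁻¹ * s⁻¹) * (S.h r' (s'⁻¹ * s'⁻¹) * (S.h q t * (S.h q' t' * (S.h q t⁻¹ * S.h q' t'⁻¹)))) =
      (S.h r s)⁻¹ * ((S.h r' s')⁻¹ * ((S.h r' s')⁻¹ * (S.h r s)⁻¹)) := by
  refine Sys.eq_of_chi _ hφ ?_ ?_ fun i => ?_
  rotate_left 2
  repeat rw [Sys.chi_mul]
  repeat rw [Sys.chi_inv]
  · simp [Sys.chi_h, mul_zpow, mul_comm, mul_left_comm, mul_assoc]
  all_goals repeat' with_reducible first | apply Sys.h_mem | apply inv_mem | apply mul_mem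

variable {F : Type*} [Field F] [Finite F] [CharP F 2] {φ : F ≃+* F}

theorem swF4_a : sw (stbF4 φ) ⟨2, by decide⟩ = certF4.wd (Cert.toNd chevF4 [1, 2, 1, 2]) :=
  GenE.w0_eq ssF4 (π := Fin.revPerm) rfl _ _ (by decide +kernel)

theorem swF4_b : sw (stbF4 φ) ⟨3, by decide⟩ = certF4.wd (Cert.toNd chevF4 [0, 3]) :=
  GenE.w0_eq ssF4 (π := Fin.revPerm) rfl _ _ (by decide +kernel)

theorem chF4 : Chain (stbF4 φ) ⟨2, by decide⟩ ⟨3, by decide⟩ := by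
  refine ⟨(by decide : ¬ Fin.revPerm.SameCycle (3 : Fin 4) 2),
    (by decide : ∀ i, Fin.revPerm.SameCycle (2 : Fin 4) i ∨ Fin.revPerm.SameCycle (3 : Fin 4) i), ?_, ?_, ?_, ?_, ?_⟩ <;>
    simp only [certF4.pos_iff_val, sw_apply ssF4 swF4_a, sw_apply ssF4 swF4_b] <;> decide +kernel

theorem inJF4 (r : Rt chevF4) : certF4.InJ ((stbF4 φ).orb ⟨3, by decide⟩) r ↔ (r : ℕ) ∈ [14, 23, 24, 33] := by
  revert r
  change ∀ r, (∀ j, ¬ Fin.revPerm.SameCycle _ j → _) ↔ _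
  decide +kernel

theorem orthF4 : Orth certF4 ⟨3, by decide⟩ ((stbF4 φ).π ⟨3, by decide⟩) :=
  (by decide +kernel : Orth certF4 ⟨3, by decide⟩ ⟨0, by decide⟩)

variable (φ) in
/-- the Levi subgroup of type `SL₂` -/
noncomputable def LF4 : SL2Sys F (chevF4.group F) := SL2Sys.prod (comm2 (eF4 (φ := φ)) orthF4)

theorem fuF4 {r : Rt chevF4} (h : isogF4.lam r = 1) (t : Fˣ) : (stbF4 φ).fu r t = mu φ t :=
  Units.ext (by rw [Stb.fu_val, fF4, h, pow_one]; rfl)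

theorem LF4_h (t : Fˣ) : (LF4 φ).h t = (certF4.sys F).h (certF4.sp ⟨3, by decide⟩) t *
    (certF4.sys F).h (certF4.sp ⟨0, by decide⟩) (mu φ t) := by
  rw [LF4, SL2Sys.prod_h, SL2Sys.map_h, sysR_h, MulEquiv.coe_toMonoidHom, Stb.σ_h (eF4 _), fuF4 (by decide +kernel),
    Stb.sp]
  rfl

variable (h3 : ∀ t, φ (φ t) ^ 2 = t)
include h3

theorem lvF4 : Lv (stbF4 φ) ⟨3, by decide⟩ (LF4 φ) (RingHom.id F) :=
  lv_two eF4 orthF4 rfl (fun t => by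
    rw [fF4, fF4, show isogF4.lam (certF4.sp ((stbF4 φ).π ⟨3, by decide⟩)) = 2 from
      (by decide +kernel : isogF4.lam (certF4.sp ⟨0, by decide⟩) = 2), show isogF4.lam _ = 1 by decide +kernel, pow_one, h3])
    fun r hr => by
      have := (inJF4 r).1 hr.2
      have h1 := (certF4.pos_iff_val r).1 hr.1
      clear hr; revert r; decide +kernel

theorem pair_fix {r : Rt chevF4} (h : isogF4.lam r = 1) (t : Fˣ) :
    (stbF4 φ).σ ((certF4.sys F).h r t * (certF4.sys F).h (isogF4.bar r) (mu φ t)) =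
      (certF4.sys F).h r t * (certF4.sys F).h (isogF4.bar r) (mu φ t) := by
  have h1 : isogF4.lam (isogF4.bar r) = 2 := by revert r; decide +kernel
  rw [map_mul, Stb.σ_h rfl, Stb.σ_h rfl, fuF4 h, (certF4.sys F).H_comm (certF4.sys_φ_inj F) (Sys.h_mem _ _ _) (Sys.h_mem _ _ _)]
  congr 2
  · exact isogF4.bar_bar r
  · exact Units.ext (by rw [Stb.fu_val, fF4, h1]; exact h3 t)

theorem pow_ne_F4 {s : Fˣ} (hs : s ≠ 1) {i j : ℤ} (h : ∃ k < 4, (2 * i ^ 2 - j ^ 2).natAbs = 2 ^ k) :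
    s ^ i * mu φ s ^ j ≠ 1 := fun e => by
  obtain ⟨k, -, hk⟩ := h
  have h1 : mu φ (mu φ s) ^ (2 : ℤ) = s := Units.ext (by simpa [mu] using h3 s)
  have h2 := congrArg (fun t => Units.map (φ : F →* F) t ^ (2 : ℤ)) e
  simp only [map_mul, map_zpow, map_one, one_zpow, mul_zpow] at h2
  change (mu φ s ^ i) ^ (2 : ℤ) * (mu φ (mu φ s) ^ j) ^ (2 : ℤ) = 1 at h2
  rw [← zpow_mul _ j, mul_comm j, zpow_mul, h1] at h2
  have h4 : s ^ (2 * i ^ 2 - j ^ 2) = 1 := by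
    calc _ = (s ^ i * mu φ s ^ j) ^ (2 * i) * ((mu φ s ^ i) ^ (2 : ℤ) * s ^ j) ^ (-j) := by
          simp only [mul_zpow, ← zpow_mul]
          rw [mul_assoc, ← mul_assoc (mu φ s ^ _), ← zpow_add, ← mul_assoc, mul_right_comm, ← zpow_add]
          rw [show j * (2 * i) + i * 2 * -j = 0 by ring, zpow_zero, mul_one]; congr 1; ring
      _ = 1 := by rw [e, h2]; simp
  rw [← orderOf_dvd_iff_zpow_eq_one, Int.natCast_dvd, hk, orderOf_dvd_iff_pow_eq_one] at h4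
  have : Fact (Nat.Prime 2) := ⟨Nat.prime_two⟩
  have h5 : ((s : F) - 1) ^ 2 ^ k = 0 := by rw [sub_pow_char_pow, ← Units.val_pow_eq_pow_val, h4]; simp
  exact hs (Units.ext (sub_eq_zero.1 (pow_eq_zero_iff (by positivity) |>.1 h5)))

variable {K : Subgroup (chevF4.group F)} (hK : (stbF4 φ).Good K) (hfix : ∀ g, (stbF4 φ).σ g = g → g ∈ K)
  (hF : 4 < Nat.card F)
include hK hfix hF

theorem setupF4 : Setup (stbF4 φ) K ⟨2, by decide⟩ ⟨3, by decide⟩ (LF4 φ) (RingHom.id F) := by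
  have hi := certF4.sys_φ_inj F
  have hN := nodeF4 hK h3 hfix (exists_pow_ne F one_lt_two (by omega))
  have hB := hK.bn hN
  refine ⟨hi, hB, hfix, fun i => (hN i).span.1, chF4, lvF4 h3, fun n hn hw => ?_⟩
  obtain ⟨x, hx, h4⟩ := hB.ne ⟨2, by decide⟩
  obtain ⟨m, hm⟩ := exists_isM hK (Stb.conj_Xp hn hw hx) (by simpa using h4)
  obtain ⟨t, ht, e⟩ := exists_fix_of_cdet (by decide +kernel) eF4 _ (hm.2.1.inv_mul_mem_H hw)
    (hK.fix _ (mul_mem (inv_mem hm.1) hn))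
  have a := fun i => (congrFun ht _).symm.trans (Stb.st_apply (T := stbF4 φ) t i)
  have a0 : t ⟨0, by decide⟩ = mu φ (t ⟨3, by decide⟩) := (a ⟨3, by decide⟩).trans (fuF4 (by decide +kernel) _)
  have a1 : t ⟨1, by decide⟩ = mu φ (t ⟨2, by decide⟩) := (a ⟨2, by decide⟩).trans (fuF4 (by decide +kernel) _)
  obtain ⟨s, hs⟩ := isSquare_of_two_eq_zero (CharTwo.two_eq_zero (R := F)) (t ⟨2, by decide⟩)⁻¹
  obtain ⟨s, rfl⟩ : ∃ s' : Fˣ, (s' : F) = s := ⟨Units.mk0 s (by rintro rfl; simp at hs), rfl⟩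
  have h5 : t ⟨2, by decide⟩ = s⁻¹ * s⁻¹ := by rw [← mul_inv, ← inv_eq_iff_eq_inv]; exact Units.ext (by simpa using hs)
  have h6 := pair_fix h3 (r := certF4.sp ⟨2, by decide⟩) (by decide +kernel) s
  rw [show isogF4.bar (certF4.sp ⟨2, by decide⟩) = certF4.sp ⟨1, by decide⟩ by decide +kernel] at h6
  refine ⟨_, Units.ne_zero (t ⟨3, by decide⟩)⁻¹, _, (congrArg (fun n => IsM (stbF4 φ) K _ n _) ?_).mpr
    (hm.conj (hfix _ h6) (mul_mem (Sys.h_mem _ _ _) (Sys.h_mem _ _ _)))⟩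
  have h7 := conj_h hi (Stb.over_w0_inv hm.2.1) (certF4.sp ⟨2, by decide⟩) s
  have h8 := conj_h hi (Stb.over_w0_inv hm.2.1) (certF4.sp ⟨1, by decide⟩) (mu φ s)
  rw [show certF4.w0 _ _ = (certF4.sp ⟨2, by decide⟩).rev from Fin.ext ((sw_apply ssF4 swF4_a _).trans (by decide +kernel)),
    h_rev hi] at h7
  rw [show certF4.w0 _ _ = (certF4.sp ⟨1, by decide⟩).rev from Fin.ext ((sw_apply ssF4 swF4_a _).trans (by decide +kernel)),
    h_rev hi] at h8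
  rw [inv_mul_eq_iff_eq_mul, hh_eq_of_perm hi t
    (l := [⟨2, by decide⟩, ⟨1, by decide⟩, ⟨3, by decide⟩, ⟨0, by decide⟩]) (by decide)] at e
  rw [e, LF4_h, show ∀ a b : chevF4.group F, a * b * m * (a * b)⁻¹ = m * ((m⁻¹ * a * m⁻¹⁻¹) * (m⁻¹ * b * m⁻¹⁻¹) * (a * b)⁻¹)
    from fun a b => by group, h7, h8]
  simp only [List.map, List.prod_cons, List.prod_nil, a0, a1, h5, mul_one, mul_assoc, mul_inv_rev]
  simp only [mu, map_mul, map_inv]
  exact congrArg _ (tor_id hi _ _ _ _ _ _ _ _)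

theorem coverF4 : ∃ x ∈ K, ¬ 2 ∣ orderOf x ∧ ∀ g ∈ K, g ≠ 1 → Sq K x g := by
  have hi := certF4.sys_φ_inj F
  have h := setupF4 h3 hK hfix hF
  have h2 : (1 : F) + 1 = 0 := CharTwo.add_self_eq_zero 1
  obtain ⟨t, ht⟩ := exists_pow_ne F (show 1 < 4 by decide) hF
  obtain ⟨t, rfl⟩ : ∃ s' : Fˣ, (s' : F) = t := ⟨Units.mk0 t (by rintro rfl; simp at ht), rfl⟩
  have ht' : t ^ 3 ≠ 1 := fun e => ht (by rw [← Units.val_pow_eq_pow_val, pow_succ, e, one_mul])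
  obtain ⟨z, hz⟩ : ∃ z, z = (certF4.sys F).h ⟨45, by decide⟩ t * (certF4.sys F).h (isogF4.bar ⟨45, by decide⟩) (mu φ t) := ⟨_, rfl⟩
  have z1 : z ∈ K := hz ▸ hfix _ (pair_fix h3 (by decide +kernel) t)
  have z2 : z ∈ (certF4.sys F).H := hz ▸ mul_mem (Sys.h_mem _ _ _) (Sys.h_mem _ _ _)
  have z3 : ∀ r, (certF4.sys F).chi z r = t ^ certF4.A ⟨45, by decide⟩ r * mu φ t ^ certF4.A (isogF4.bar ⟨45, by decide⟩) r :=
    fun r => by rw [hz, Sys.chi_mul (Sys.h_mem _ _ _) (Sys.h_mem _ _ _), Sys.chi_h, Sys.chi_h]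
  have z4 : Ac (LF4 φ) z 1 := h.lv.ac_H hK z1 z2 (by
    rw [z3, show certF4.A _ _ = 0 by decide +kernel, show certF4.A _ _ = 0 by decide +kernel]; simp)
  obtain ⟨y, y1, y2⟩ : ∃ y : SLT F, y.1.trace = 1 ∧ y ^ 3 = 1 := ⟨mkSL !![1, 1; 1, 0] (by simp [CharTwo.neg_eq]), by simp, sl_ext (by
    ext i j; fin_cases i <;> fin_cases j <;> simp [pow_succ, mul_ap, h2])⟩
  have h4 : (4 : F) = 0 := by rw [show (4 : F) = (1 + 1) * 2 by norm_num, h2, zero_mul]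
  have x3 : ((LF4 φ).fromSL2 y * z) ^ 3 = z ^ 3 := by rw [(z4.commute y).mul_pow, ← map_pow, y2, map_one, one_mul]
  have hd : (certF4.w0 Set.univ * sw (stbF4 φ) ⟨3, by decide⟩) (certF4.sp ⟨3, by decide⟩) = certF4.sp ⟨3, by decide⟩ := by
    rw [Perm.mul_apply, w0F4, Fin.rev_eq_iff]
    exact Fin.ext ((sw_apply ssF4 swF4_b _).trans (by decide +kernel))
  refine ⟨_, mul_mem (h.lv.ψ_mem hK y).2 z1, not_dvd_order hi 2 (x3 ▸ pow_mem z2 3) (by decide), fun g hg h1 =>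
    h.main_big hF z1 z2 z4 (by simp [dg, ← Matrix.one_fin_two, y1, h4]) (fpf_of_pow' (pow_mem z2 3) x3 fun r hr => ?_) hd
      (h.lv.hC_two hK hi w0F4 hd (w := sw _ ⟨2, by decide⟩ * sw _ ⟨3, by decide⟩ * sw _ ⟨2, by decide⟩)
        (mul_mem (mul_mem (sw_W _) (sw_W _)) (sw_W _)) (cj_mul' (cj_mul' (cj_sw _) (cj_sw _)) (cj_sw _)) ?_ fun r hr => ?_)
      (mul_mem z1 z1) (mul_mem z2 z2) (by simpa using z4.mul z4) (h.lv.sq_one hK (by simp [y1, h4]) z4) hg h1⟩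
  · rw [Sys.chi_pow z2, z3, mul_pow, ← zpow_natCast, ← zpow_natCast, zpow_comm, zpow_comm (mu φ t), zpow_natCast, zpow_natCast,
      show mu φ t ^ 3 = mu φ (t ^ 3) from (map_pow _ _ _).symm]
    refine pow_ne_F4 h3 ht' ?_
    rw [inJF4] at hr
    revert r; decide +kernel
  · have e := fun i => certF4.w0_mem_Aut ((stbF4 φ).orb i)
    refine Cert.Aut.eq_of_sp (mul_mem (mul_mem (mul_mem (mul_mem (e _) (e _)) (e _)) (e _))
      (inv_mem (mul_mem (mul_mem (e _) (e _)) (e _)))) (mul_mem (certF4.w0_mem_Aut _) (e _)) fun i => Fin.ext ?_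
    simp only [mul_inv_rev, sw_inv, Perm.mul_apply, w0F4, Fin.val_rev, sw_apply ssF4 swF4_a, sw_apply ssF4 swF4_b]
    revert i; decide +kernel
  · have := (inJF4 r).1 hr.2
    have h1 := (certF4.pos_iff_val r).1 hr.1
    simp only [inJF4, certF4.pos_iff_val, Perm.mul_apply, sw_apply ssF4 swF4_a, sw_apply ssF4 swF4_b]
    clear hr; revert r; decide +kernel

end Cfsg.Agent.TwC
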