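import Cfsg.Agent.TwC.Tri

/-!
Normal forms of conjugacy classes relative to a maximal parabolic subgroup in relative rank two.
-/

set_option autoImplicit false

namespace Cfsg.Agent.TwC

open Cfsg.Lie Cfsg.Lie.ChevalleyDatum Cfsg.Agent.Chev Cfsg.Agent.Tw Cfsg.Agent.TwM Equiv

variable {D : ChevalleyDatum} {C : Cert D} {F : Type*} [Field F] {G : Type*} [Group G] {S : Sys C F G}
  {T : Stb S} {K : Subgroup G} {a b i : Nd D}

variable (T) in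
/-- relative rank two with a long braid -/
structure Chain (a b : Nd D) : Prop where
  ne : a ∉ T.orb b
  cover : ∀ i, i ∈ T.orb a ∨ i ∈ T.orb b
  c1 : C.Pos (sw T a (sw T b (C.sp a)))
  c2 : C.Pos (sw T b (sw T a (C.sp b)))
  c3 : C.Pos (sw T b (sw T a (sw T b (C.sp a))))
  c4 : C.Pos (sw T a (sw T b (sw T a (sw T b (C.sp a)))))
  c5 : C.Pos (sw T a (sw T b (sw T a (sw T b (sw T a (C.sp b))))))

variable (T) in
/-- reduced double coset representatives -/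
structure Red (b : Nd D) (d : Perm (Rt D)) : Prop where
  mem : d ∈ C.W
  fix : T.cj d = d
  ne : d ≠ 1
  pos : C.Pos (d (C.sp b))
  pos' : C.Pos (d⁻¹ (C.sp b))

theorem pos_orb {w : Perm (Rt D)} (h0 : T.cj w = w) (h : C.Pos (w (C.sp i))) : ∀ j ∈ T.orb i, C.Pos (w (C.sp j)) :=
  fun _ hj => ((Stb.stable_desc h0).orb_iff hj).2 h

theorem sw_inv (i : Nd D) : (sw T i)⁻¹ = sw T i := C.w0_inv _

theorem sw_sw (i : Nd D) : sw T i * sw T i = 1 := C.w0_mul_self _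

theorem sw_W (i : Nd D) : sw T i ∈ C.W := C.w0_mem_W _

theorem cj_inv' {w : Perm (Rt D)} (h0 : T.cj w = w) : T.cj w⁻¹ = w⁻¹ := by rw [T.cj_inv, h0]

theorem cj_mul' {v w : Perm (Rt D)} (h : T.cj v = v) (h0 : T.cj w = w) : T.cj (v * w) = v * w := by rw [T.cj_mul, h, h0]

theorem neg_mul_sw {w : Perm (Rt D)} (hw : w ∈ C.W) (h0 : T.cj w = w) (h : C.Pos (w (C.sp i))) :
    ¬ C.Pos ((w * sw T i) (C.sp i)) := fun e =>
  (sw_Rp (sp_Rp i)).1 ((pos_of_asc hw h0 h (sw_Rp (sp_Rp i)).2).1 e)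

theorem pos_mul_sw {w : Perm (Rt D)} (hw : w ∈ C.W) (h0 : T.cj w = w) (h : ¬ C.Pos (w (C.sp i))) :
    C.Pos ((w * sw T i) (C.sp i)) := (neg_of_desc hw h0 h (sw_Rp (sp_Rp i)).2).2 (sw_Rp (sp_Rp i)).1

theorem pos_sw (h : a ∉ T.orb b) : C.Pos (sw T b (C.sp a)) :=
  Cert.pos_map_of_not_inJ (C.w0_mem _) (C.pos_sp a) fun e => h (C.inJ_sp.1 e)

theorem Chain.ne' (h : Chain T a b) : b ∉ T.orb a := fun e => h.ne (Perm.SameCycle.symm e)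

theorem cell_conj {w : Perm (Rt D)} {g n : G} (h : S.Cell w g) (h0 : T.cj w = w) (h1 : C.Pos (w (C.sp i)))
    (h2 : C.Pos ((w * sw T i)⁻¹ (C.sp i))) (hn : S.Over n (sw T i)) : S.Cell (sw T i * w * sw T i) (n * g * n⁻¹) := by
  have h3 := (cell_mul_over (pos_orb (cj_inv' (cj_mul' h0 (cj_sw i))) h2) (cell_mul_over (pos_orb h0 h1) h (C.w0_mem _)
    (Stb.over_w0_inv hn)).inv (C.w0_mem _) (Stb.over_w0_inv hn)).inv
  simpa [mul_assoc, C.w0_inv] using h3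

theorem exists_notMem_B (hK : T.BN K) (hφ : Function.Injective S.φ) (hs : ∀ i, ∃ x ∈ T.Xp K i, S.cd (C.sp i) x = 1)
    {g : G} (h1 : g ≠ 1) : ∃ k ∈ K, k * g * k⁻¹ ∉ S.B := by
  by_contra h
  push Not at h
  have h2 : ∀ y ∈ K, y * g * y⁻¹ ∈ S.H := fun y hy => by
    obtain ⟨u, hu, a, ha, e⟩ := S.mem_B.1 (h y hy)
    obtain ⟨m, h0, hm⟩ := hK.ex_w0
    have h3 : m * u * m⁻¹ ∈ S.B := by
      have := mul_mem (h (m * y) (mul_mem h0 hy)) (inv_mem (S.H_le_B (S.N_conj_H hm.mem_N ha)))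
      rwa [show m * y * g * (m * y)⁻¹ = m * (y * g * y⁻¹) * m⁻¹ by group, e,
        show m * (u * a) * m⁻¹ * (m * a * m⁻¹)⁻¹ = m * u * m⁻¹ by group] at this
    have : u = 1 := conj_eq_one_iff.1 (S.eq_one_of_mem_Um_B (S.w0_conj_Up hm hu) h3)
    rw [e, this, one_mul]; exact ha
  have h3 : g ∈ S.H := by simpa using h2 1 (one_mem _)
  refine h1 (hφ ((Sys.φ_eq_one_of_chi h3 fun i => ?_).trans (map_one _).symm))
  obtain ⟨x, hx, e⟩ := hs i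
  have h4 := Stb.Xp_le_Up i hx
  have h5 := S.eq_one_of_mem_Up_H (mul_mem (inv_mem h4) (Sys.H_conj_U h3 h4)) (by
    simpa [mul_assoc] using mul_mem (h2 _ (inv_mem hx.2)) (inv_mem h3))
  have h6 := cd_sp_conj h3 h4 i
  rw [← inv_mul_eq_one.1 h5, e, mul_one] at h6
  exact Units.ext h6.symm

theorem Chain.exists_notMem_P (h : Chain T a b) (hK : T.BN K) (hφ : Function.Injective S.φ)
    (hs : ∀ i, ∃ x ∈ T.Xp K i, S.cd (C.sp i) x = 1) {g : G} (hg : g ∈ K) (h1 : g ≠ 1) :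
    ∃ k ∈ K, k * g * k⁻¹ ∉ S.P (T.orb b) := by
  obtain ⟨k, hk, h2⟩ := exists_notMem_B hK hφ hs h1
  by_cases h3 : k * g * k⁻¹ ∈ S.P (T.orb b)
  · obtain ⟨n, hn, h4⟩ := hK.ex_orb a
    have h5 := cell_conj ((hK.cell_P (mul_mem (mul_mem hk hg) (inv_mem hk)) h3).resolve_left h2) (cj_sw b) (pos_sw h.ne)
      (by rw [mul_inv_rev, sw_inv, C.w0_inv]; exact h.c1) h4
    refine ⟨_, mul_mem hn hk, fun e => h.ne (Cert.mem_of_neg_WJ (h5.mem_P_iff.1 (by simpa [mul_assoc] using e))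
      (neg_mul_sw (mul_mem (sw_W a) (sw_W b)) (cj_mul' (cj_sw a) (cj_sw b)) h.c1))⟩
  · exact ⟨k, hk, h3⟩

theorem exists_red (hK : T.Good K) (hfix : ∀ g, T.σ g = g → g ∈ K) {g : G} (hg : g ∈ K) (h1 : g ∉ S.P (T.orb b)) :
    ∃ k ∈ K, ∃ d, Red T b d ∧ ∃ n ∈ K, S.Over n d ∧ ∃ l ∈ Lk T K b, ∃ q ∈ Qp T K b, k * g * k⁻¹ = n * l * q := by
  obtain ⟨w, hw, hc⟩ := S.exists_cell g
  obtain ⟨h0, u, h2, hu, m, h3, hm, u', h4, hu', rfl⟩ := hK.nf hg hc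
  obtain ⟨s, h5, hs⟩ := hK.ex_orb b
  have hP : ∀ {v}, v ∈ S.Up → v ∈ S.P (T.orb b) := fun h => S.Up_le_P _ h
  have h6 := hs.mem_P (C.w0_mem _)
  obtain ⟨m', h7, w', hm', h8, h9, p, hp, h10, rfl⟩ : ∃ m' ∈ K, ∃ w', S.Over m' w' ∧ T.cj w' = w' ∧ C.Pos (w' (C.sp b)) ∧
      ∃ p ∈ S.P (T.orb b), p ∈ K ∧ m = m' * p := by
    by_cases e : C.Pos (w (C.sp b))
    · exact ⟨m, h3, w, hm, h0, e, 1, one_mem _, one_mem _, by simp⟩
    · exact ⟨_, mul_mem h3 h5, _, hm.mul hs, cj_mul' h0 (cj_sw b), pos_mul_sw hw h0 e, _, inv_mem h6, inv_mem h5, by simp⟩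
  obtain ⟨n, h11, d, hn, h12, h13, h14, p', hp', h15, rfl⟩ : ∃ n ∈ K, ∃ d, S.Over n d ∧ T.cj d = d ∧ C.Pos (d (C.sp b)) ∧
      C.Pos (d⁻¹ (C.sp b)) ∧ ∃ p' ∈ S.P (T.orb b), p' ∈ K ∧ m' = p' * n := by
    by_cases e : C.Pos (w'⁻¹ (C.sp b))
    · exact ⟨m', h7, w', hm', h8, h9, e, 1, one_mem _, one_mem _, by simp⟩
    · refine ⟨_, mul_mem h5 h7, _, hs.mul hm', cj_mul' (cj_sw b) h8, Cert.pos_map_of_not_inJ (C.w0_mem _) h9 fun e' => ?_,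
        by rw [mul_inv_rev, C.w0_inv]; exact pos_mul_sw (inv_mem hm'.mem_W) (cj_inv' h8) e, _, inv_mem h6, inv_mem h5, by simp⟩
      exact (neg_of_desc (inv_mem hm'.mem_W) (cj_inv' h8) e e').1 (by simpa using C.pos_sp b) h9
  obtain ⟨l, hl, q, hq, e⟩ := split_P hK hfix (mul_mem (mul_mem hp (hP (S.Uw_le_Up _ hu'))) (mul_mem (hP hu) hp'))
    (mul_mem (mul_mem h10 h4) (mul_mem h2 h15))
  refine ⟨_, inv_mem (mul_mem h2 h15), d, ⟨hn.mem_W, h12, ?_, h13, h14⟩, n, h11, hn, l, hl, q, hq, ?_⟩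
  · rintro rfl
    exact h1 (mul_mem (mul_mem (hP hu) (mul_mem (mul_mem hp' (S.H_le_P _ hn.mem_H)) hp)) (hP (S.Uw_le_Up _ hu')))
  · rw [mul_assoc n, ← e]; group

theorem Chain.neg (h : Chain T a b) {d : Perm (Rt D)} (hd : Red T b d) : ¬ C.Pos (d (C.sp a)) := fun e =>
  hd.ne (Cert.eq_one_of_pos hd.mem fun i => (h.cover i).elim (pos_orb hd.fix e i) (pos_orb hd.fix hd.pos i))

theorem Chain.exists_long (h : Chain T a b) (hK : T.Good K) {g : G} (hg : g ∈ K) (hc : S.Cell (sw T a) g) :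
    ∃ k ∈ K, ∃ d, Red T b d ∧ d ∉ C.WJ (T.orb a) ∧ ∃ n ∈ K, S.Over n d ∧ ∃ x ∈ T.Xp K b, ∃ q ∈ Qp T K b,
      k * g * k⁻¹ = n * x * q := by
  obtain ⟨n, hn, h1⟩ := hK.ex_orb b
  obtain ⟨n', hn', h2⟩ := hK.ex_orb a
  have f3 := cj_mul' (cj_mul' (cj_sw b) (cj_sw a)) (cj_sw (T := T) b)
  have h3 := cell_conj (cell_conj hc (cj_sw a) (pos_sw h.ne') (by rw [mul_inv_rev, sw_inv, sw_inv]; exact h.c2) h1) f3 h.c3
    (by simp only [mul_inv_rev, sw_inv]; exact h.c4) h2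
  have h4 := mul_mem hn' hn
  obtain ⟨h0, u, h5, hu, m, h6, hm, u', h7, hu', e⟩ := hK.nf (mul_mem (mul_mem hn' (mul_mem (mul_mem hn hg) (inv_mem hn)))
    (inv_mem hn')) h3
  obtain ⟨x, hx, q, hq, e'⟩ := split_U' hK b (mul_mem ⟨S.Uw_le_Up _ hu', h7⟩ ⟨hu, h5⟩ : u' * u ∈ Uk (S := S) K)
  have h8 : sw T a * (sw T b * sw T a * sw T b) * sw T a ∉ C.WJ (T.orb a) := fun e =>
    h.ne' (Cert.mem_of_neg_WJ ((mul_mem_cancel_left (C.w0_mem _)).1 ((mul_mem_cancel_right (C.w0_mem _)).1 e))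
      (neg_mul_sw (mul_mem (sw_W b) (sw_W a)) (cj_mul' (cj_sw b) (cj_sw a)) h.c2))
  refine ⟨_, mul_mem (inv_mem h5) h4, _, ⟨hm.mem_W, h0, fun e => h8 (e ▸ one_mem _), h.c5, by
    simp only [mul_inv_rev, sw_inv]; exact h.c5⟩, h8, m, h6, hm, x, hx, q, hq, ?_⟩
  calc _ = u⁻¹ * (n' * (n * g * n⁻¹) * n'⁻¹) * u := by group
    _ = _ := by rw [e, mul_assoc m, ← e']; group

theorem Chain.dichotomy (h : Chain T a b) (hs : ∀ r ∈ Rp T b, ∃ j, r = C.sp j) {d : Perm (Rt D)} (hd : Red T b d) :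
    d = C.w0 Set.univ * sw T b ∨ ((∀ r ∈ Rp T b, C.Pos (d r) ∧ ¬ C.InJ (T.orb b) (d r)) ∧
      ∀ r ∈ Rp T b, C.Pos (d⁻¹ r) ∧ ¬ C.InJ (T.orb b) (d⁻¹ r)) := by
  have key : ∀ {w : Perm (Rt D)}, w ∈ C.W → T.cj w = w → ∀ r ∈ Rp T b, C.InJ (T.orb b) (w r) →
      Set.MapsTo w {r | C.InJ (T.orb b) r} {r | C.InJ (T.orb b) r} := by
    intro w hw h0 r hr e
    obtain ⟨j, rfl⟩ := hs r hr
    have h1 : T.Stable {j | C.InJ (T.orb b) (w (C.sp j))} := fun j => by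
      simp only [Set.mem_ofPred_eq]
      rw [← T.sp, ← h0, T.cj_apply, (T.stable_orb b).inJ, h0]
    exact fun r hr' => inJ_map_of_sp (C.W_le_Aut hw) (fun k hk => (h1.orb_iff hk).2
      ((h1.orb_iff (C.inJ_sp.1 hr.2)).1 e)) hr'
  by_cases e : Set.MapsTo d {r | C.InJ (T.orb b) r} {r | C.InJ (T.orb b) r}
  · refine Or.inl (eq_w0_mul hd.mem (fun r => ⟨fun h1 => ?_, fun h1 => e h1⟩) (pos_orb hd.fix hd.pos) fun j hj h1 =>
      h.neg hd (((Stb.stable_desc hd.fix).orb_iff ((h.cover j).resolve_right hj)).1 h1))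
    simpa using Perm.perm_symm_mapsTo_of_mapsTo d e h1
  · exact Or.inr ⟨fun r hr => ⟨(pos_of_asc hd.mem hd.fix hd.pos hr.2).2 hr.1, fun h1 => e (key hd.mem hd.fix r hr h1)⟩,
      fun r hr => ⟨(pos_of_asc (inv_mem hd.mem) (cj_inv' hd.fix) hd.pos' hr.2).2 hr.1, fun h1 => e
        (Perm.perm_symm_mapsTo_of_mapsTo _ (key (inv_mem hd.mem) (cj_inv' hd.fix) r hr h1))⟩⟩

end Cfsg.Agent.TwC
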