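import Cfsg.Agent.SL2.Prod
import Cfsg.Agent.Stein.SL2Pres

/-!
Two by two matrices: traces of products.
-/

set_option autoImplicit false

namespace Cfsg.Agent.TwC

open Matrix Cfsg.Agent.SL2 Cfsg.Agent.Stein Polynomial

variable {E : Type*} [Field E]

/-- a diagonal matrix -/
def dg (c : E) : M2 E := !![c, 0; 0, 1]

/-- conjugation by a diagonal matrix -/
def dgc (c : Eˣ) : SLT E →* SLT E := MonoidHom.mk'
  (fun M => mkSL !![M.1 0 0, c * M.1 0 1; (c⁻¹ : Eˣ) * M.1 1 0, M.1 1 1] (by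
    rw [det_fin_two_of]; linear_combination sl_det M - M.1 0 1 * M.1 1 0 * c.mul_inv))
  fun M N => sl_ext (by
    ext i j; fin_cases i <;> fin_cases j <;> simp [mul_ap] <;> field_simp)

theorem dgc_val (c : Eˣ) (M : SLT E) : (dgc c M).1 = !![M.1 0 0, c * M.1 0 1; (c⁻¹ : Eˣ) * M.1 1 0, M.1 1 1] := rfl

theorem dgc_mul (c : Eˣ) (M : SLT E) : (dgc c M).1 * dg (c : E) = dg (c : E) * M.1 := by
  refine m2_ext ?_ ?_ ?_ ?_ <;> rw [mul_ap, mul_ap] <;> simp [dgc_val, dg, mul_comm]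

theorem dg_mul (c d : E) : dg (c * d) = dg c * dg d := by simp [dg]

theorem det_dg (c : E) : (dg c).det = c := by simp [dg]

theorem X_val (t : E) : (sl2X E t).1 = !![1, t; 0, 1] := rfl
theorem Y_val (t : E) : (sl2Y E t).1 = !![1, 0; t, 1] := rfl

theorem dgc_X (c : Eˣ) (t : E) : dgc c (sl2X E t) = sl2X E (c * t) := sl_ext (by simp [dgc_val, X_val])
theorem dgc_Y (c : Eˣ) (t : E) : dgc c (sl2Y E t) = sl2Y E ((c⁻¹ : Eˣ) * t) := sl_ext (by simp [dgc_val, Y_val])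
theorem dgc_one (M : SLT E) : dgc 1 M = M := sl_ext (by rw [dgc_val]; ext i j; fin_cases i <;> fin_cases j <;> simp)
theorem dgc_dgc (c d : Eˣ) (M : SLT E) : dgc c (dgc d M) = dgc (c * d) M :=
  sl_ext (by simp [dgc_val, mul_assoc, mul_left_comm])

theorem eq_of_mul_dg {c : E} (hc : c ≠ 0) {M N : SLT E} (h : M.1 * dg c = N.1 * dg c) : M = N :=
  sl_ext ((isUnit_iff_isUnit_det _).2 (by rw [det_dg]; exact hc.isUnit) |>.mul_right_cancel h)

theorem exists_low {A N : SLT E} (h : A.1 1 0 ≠ 0 ∨ N.1 1 0 ≠ 0) : ∃ t, (A * (sl2X E t * N)).1 1 0 ≠ 0 := by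
  by_contra h1
  push Not at h1
  have h2 := h1 0
  have h3 := h1 1
  have h4 := sl_det A
  have h5 := sl_det N
  simp only [sl_mul_val, mul_ap, X_val, of_apply, cons_val', cons_val_zero, cons_val_one, cons_val_fin_one] at h2 h3
  rcases h with h | h
  · have h6 : N.1 1 0 = 0 := mul_left_cancel₀ h (by linear_combination h3 - h2)
    exact h (by linear_combination N.1 1 1 * h2 - A.1 1 0 * h5 - (A.1 1 0 * N.1 0 1 + A.1 1 1 * N.1 1 1) * h6)
  · have h6 : A.1 1 0 = 0 := mul_right_cancel₀ h (by linear_combination h3 - h2)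
    exact h (by linear_combination A.1 0 0 * h2 - N.1 1 0 * h4 - (A.1 0 1 * N.1 1 0 + A.1 0 0 * N.1 0 0) * h6)

theorem exists_sq_ne [Finite E] {p : E[X]} {n : ℕ} (h0 : 0 < n) (h : p.natDegree = n) (hE : 2 * n < Nat.card E) (e : E) :
    ∃ t, p.eval t ^ 2 ≠ e := by
  have := Fintype.ofFinite E
  by_contra h1
  push Not at h1
  have h2 : (p ^ 2 - C e).natDegree = 2 * n := by rw [natDegree_sub_C, natDegree_pow, h]
  have h3 := eq_zero_of_natDegree_lt_card_of_eval_eq_zero (p ^ 2 - C e) Function.injective_id (fun t => by simp [h1])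
    (by rw [h2, ← Nat.card_eq_fintype_card]; exact hE)
  rw [h3, natDegree_zero] at h2
  omega

theorem exists_lin [Finite E] (hE : 2 < Nat.card E) {B : M2 E} (hB : B 1 0 ≠ 0) (e : E) :
    ∃ t, ((sl2X E t).1 * B).trace ^ 2 ≠ e := by
  obtain ⟨t, ht⟩ := exists_sq_ne one_pos (natDegree_linear (b := B.trace) hB) hE e
  exact ⟨t, by convert ht using 2; simp only [trace_fin_two, mul_ap]; simp [X_val]; ring⟩

theorem exists_quad [Finite E] (hE : 4 < Nat.card E) {B N : M2 E} (hB : B 1 0 ≠ 0) (hN : ¬ IsScal N) (e : E) :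
    ∃ M : SLT E, (M.1 * B * (M⁻¹).1 * N).trace ^ 2 ≠ e := by
  have key : ∀ P : SLT E, ((P⁻¹).1 * N * P.1) 1 0 ≠ 0 → ∃ M : SLT E, (M.1 * B * (M⁻¹).1 * N).trace ^ 2 ≠ e := by
    intro P hP
    set N' := (P⁻¹).1 * N * P.1 with h1
    obtain ⟨t, ht⟩ := exists_sq_ne two_pos (natDegree_quadratic (a := -(B 1 0 * N' 1 0))
      (b := B 1 0 * (N' 0 0 - N' 1 1) + N' 1 0 * (B 1 1 - B 0 0)) (c := (B * N').trace)
      (neg_ne_zero.2 (mul_ne_zero hB hP))) hE e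
    refine ⟨P * sl2X E t, ?_⟩
    rw [_root_.mul_inv_rev, sl_mul_val, sl_mul_val, show P.1 * (sl2X E t).1 * B * ((sl2X E t)⁻¹.1 * P⁻¹.1) * N =
      P.1 * ((sl2X E t).1 * B * (sl2X E t)⁻¹.1 * (P⁻¹.1 * N)) by simp only [Matrix.mul_assoc], trace_mul_comm,
      Matrix.mul_assoc, ← h1]
    convert ht using 2
    simp only [trace_fin_two, mul_ap, sl_inv_val]; simp [X_val]; ring
  by_cases h1 : N 1 0 = 0
  · by_cases h2 : N 0 1 = 0
    · exact key (sl2Y E 1) (by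
        simp only [mul_ap, sl_inv_val]; simpa [Y_val, h1, h2, neg_add_eq_zero] using fun h => hN ⟨h2, h1, h⟩)
    · exact key (mkSL !![0, 1; -1, 0] (by simp)) (by simp only [mul_ap, sl_inv_val]; simpa using h2)
  · exact key 1 (by simpa using h1)

theorem exists_sl_conj [Finite E] {M Y : M2 E} (hY : Y.trace ^ 2 ≠ 4 * Y.det) (h1 : Y.trace = M.trace)
    (h2 : Y.det = M.det) : ∃ P : SLT E, M = P.1 * Y * (P⁻¹).1 := by
  obtain ⟨x, y, h3⟩ := Q_surj hY 1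
  obtain ⟨x', y', h4⟩ := Q_surj (m := M) (h1 ▸ h2 ▸ hY) 1
  obtain ⟨P, h5, h6⟩ := exists_conj_of_Q (x' := x') (y' := y') h1 h2 (h3 ▸ one_ne_zero)
  rw [h3, h4, div_one] at h5
  obtain ⟨P, rfl⟩ : ∃ P' : SLT E, P'.1 = P := ⟨mkSL P h5, rfl⟩
  exact ⟨P, by rw [h6, Matrix.mul_assoc, ← sl_mul_val]; simp⟩

theorem exists_factor [Finite E] {A : M2 E} {δ : E} (hδ : δ ≠ 0) (h1 : A.det = δ * δ) (h2 : A.trace ^ 2 ≠ 4 * (δ * δ))
    (τ : E) : ∃ M N : M2 E, A = M * N ∧ M.trace = τ ∧ M.det = δ ∧ N.trace = τ ∧ N.det = δ := by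
  obtain ⟨P, hP⟩ := exists_sl_conj (M := A) (Y := comp A.trace (δ * δ)) (by simpa using h2) (by simp) (by simp [h1])
  set t := A.trace
  obtain ⟨k, h4⟩ := (sub_ne_zero.2 h2.symm).isUnit.exists_right_inv
  set s0 := (2 * (δ * δ) * τ - t * δ * τ) * k with hs0
  set R0 := (t * τ - 2 * δ * τ) * k with hR0
  have e1 : 2 * s0 - t * R0 = τ := by rw [hs0, hR0]; linear_combination τ * h4
  have e2 : 2 * (δ * δ) * R0 - t * s0 = -(δ * τ) := by rw [hs0, hR0]; linear_combination -δ * τ * h4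
  obtain ⟨x, y, hxy⟩ := norm_surj (t := -t) (d := δ * δ) (by simpa using h2)
    (-(s0 ^ 2 - t * s0 * R0 + δ * δ * R0 ^ 2 - τ * s0 + δ * τ * R0 + δ))
  obtain ⟨s, R, h⟩ : ∃ s R, s ^ 2 - t * s * R + δ * δ * R ^ 2 - τ * s + δ * τ * R + δ = 0 :=
    ⟨s0 + x, R0 + y, by linear_combination hxy + x * e1 + y * e2⟩
  have hd : ∀ M : M2 E, (P.1 * M * (P⁻¹).1).det = M.det := fun M => by rw [det_mul, det_mul, P.2, P⁻¹.2]; simp
  have ht : ∀ M : M2 E, (P.1 * M * (P⁻¹).1).trace = M.trace := fun M => by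
    rw [trace_mul_comm, ← Matrix.mul_assoc, ← sl_mul_val]; simp
  set p := δ * τ + δ * δ * R - s * t with hp
  refine ⟨P.1 * !![s, -p; -R, τ - s] * (P⁻¹).1, P.1 * (δ⁻¹ • (!![τ - s, p; R, s] * comp t (δ * δ))) * (P⁻¹).1, ?_,
    by rw [ht]; simp [trace_fin_two], by rw [hd, det_fin_two_of, hp]; linear_combination -h, ?_, ?_⟩
  · have e : !![s, -p; -R, τ - s] * !![τ - s, p; R, s] = δ • (1 : M2 E) := by
      ext i j; fin_cases i <;> fin_cases j <;> simp [mul_ap, hp] <;> first | ring1 | linear_combination -h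
    have e' : ∀ M N : M2 E, P.1 * M * (P⁻¹).1 * (P.1 * N * (P⁻¹).1) = P.1 * (M * N) * (P⁻¹).1 := fun M N => by
      rw [Matrix.mul_assoc, ← Matrix.mul_assoc (P⁻¹).1, ← Matrix.mul_assoc (P⁻¹).1, ← sl_mul_val]
      simp [Matrix.mul_assoc]
    rw [e', Matrix.mul_smul, ← Matrix.mul_assoc _ _ (SL2.comp _ _), e, hP]
    simp [smul_smul, hδ]
  · rw [ht]; simp [trace_fin_two, SL2.comp, hp]; field_simp; ring
  · rw [hd, det_smul, det_mul, det_comp, det_fin_two_of, hp]; simp; field_simp; linear_combination -h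

end Cfsg.Agent.TwC
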