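import Cfsg.Agent.TwC.Form
import Cfsg.Agent.TwC.Mat
import Cfsg.Agent.Chev.Over2

/-!
Levi subgroups of type `SL₂` of twisted groups.
-/

set_option autoImplicit false

namespace Cfsg.Agent.TwC

open Cfsg.Lie Cfsg.Lie.ChevalleyDatum Cfsg.Agent.Chev Cfsg.Agent.Tw Cfsg.Agent.TwM Equiv Cfsg.Agent.Stein Cfsg.Agent.SL2

variable {D : ChevalleyDatum} {C : Cert D} {F : Type*} [Field F] {G : Type*} [Group G] {S : Sys C F G}
  {T : Stb S} {K : Subgroup G} {a b : Nd D} {E : Type*} [Field E] {L : SL2Sys E G} {ι : E →+* F}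

variable (T) in
/-- a rank one subsystem of type `SL₂` -/
structure Lv (b : Nd D) (L : SL2Sys E G) (ι : E →+* F) : Prop where
  hx : ∀ t, L.x t ∈ S.U (Rp T b) ∧ T.σ (L.x t) = L.x t
  hy : ∀ t, L.y t ∈ S.U (Rm T b) ∧ T.σ (L.y t) = L.y t
  hN : ∀ t, t ≠ 0 → L.w t ∈ S.N
  hs : ∀ r ∈ Rp T b, ∃ j, r = C.sp j
  hc : ∀ t, S.cd (C.sp b) (L.x t) = ι t
  hψ : ∀ u ∈ S.U (Rp T b), T.σ u = u → S.cd (C.sp b) u ∈ ι.range

theorem orb_single {i : Nd D} (h1 : T.π i = i) : T.orb i = {i} :=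
  Set.ext fun j => ⟨fun h => (h.eq_of_left h1).symm, by rintro rfl; exact T.mem_orb _⟩

theorem lv_one {i : Nd D} (h1 : T.π i = i) (h2 : T.e (C.sp i) = 1) (ι : E →+* F) (h : ∀ t, T.f (C.sp i) t = t ↔ t ∈ ι.range) :
    Lv T i ((sysR S (C.sp i)).tw ι) ι := by
  have h3 : T.ρ (C.sp i) = C.sp i := by rw [T.sp, h1]
  have h4 := fun t => (h (ι t)).2 ⟨t, rfl⟩
  exact ⟨fun t => ⟨S.x_mem_U (sp_Rp i) _, by
      change T.σ (S.x _ _) = S.x _ _; rw [T.σ_x, h3, h2, Units.val_one, one_mul, h4]⟩,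
    fun t => ⟨S.x_mem_U (sp_Rm i) _, by
      change T.σ (S.x _ _) = S.x _ _
      rw [T.σ_x, T.rev, h3, T.e_rev, T.f_rev, h2, inv_one, Units.val_one, one_mul, h4]⟩,
    fun t ht => by
      rw [SL2Sys.tw_w, ← Units.val_mk0 (show ι t ≠ 0 by simpa), sysR_w]; exact S.n_mem _ _,
    fun r hr => ⟨i, Cert.eq_sp_of_inJ_singleton hr.1 (orb_single h1 ▸ hr.2)⟩, fun t => S.cd_x_self _ _,
    fun u hu e => (h _).1 (by
      have := T.cd_sp (S.U_le_Up (fun _ h => h.1) hu) i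
      rw [e, h1, h2, Units.val_one, one_mul] at this
      exact this.symm)⟩

theorem lv_two (he : ∀ i, T.e (C.sp i) = 1) {i : Nd D} (h1 : Orth C i (T.π i)) (h2 : T.π (T.π i) = i)
    (h3 : ∀ t, T.f (C.sp (T.π i)) (T.f (C.sp i) t) = t) (hs : ∀ r ∈ Rp T i, ∃ j, r = C.sp j) :
    Lv T i (SL2Sys.prod (comm2 he h1)) (RingHom.id F) :=
  ⟨fun t => ⟨mul_mem (S.x_mem_U (sp_Rp i) t) (σ_Rp (S.x_mem_U (sp_Rp i) t)), by
      simp only [sysR, SL2Sys.map, SL2Sys.prod, MulEquiv.coe_toMonoidHom, σ_sp he, map_mul, h2, h3, (h1.comm _ _).1.eq]⟩,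
    fun t => ⟨mul_mem (S.x_mem_U (sp_Rm i) t) (σ_Rm (S.x_mem_U (sp_Rm i) t)), by
      simp only [sysR, SL2Sys.map, SL2Sys.prod, MulEquiv.coe_toMonoidHom, σ_sp he, map_mul, h2, h3, (h1.comm _ _).2.2.2.eq]⟩,
    fun t ht => by
      rw [SL2Sys.prod_w, SL2Sys.map_w, ← Units.val_mk0 ht, sysR_w]; exact mul_mem (S.n_mem _ _) (T.σ_N (S.n_mem _ _)),
    hs, fun t => by
      simp only [sysR, SL2Sys.map, SL2Sys.prod, MulEquiv.coe_toMonoidHom, σ_sp he]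
      rw [TwM.cd_sp_mul i (S.x_mem_Up (C.pos_sp _) _) (S.x_mem_Up (C.pos_sp _) _), S.cd_x_self, S.cd_x_ne h1.ne, add_zero]
      rfl,
    fun u _ _ => ⟨_, rfl⟩⟩

theorem lv_three (he : ∀ i, T.e (C.sp i) = 1) {i : Nd D} (h1 : Orth C i (T.π i))
    (h1' : Orth C i (T.π (T.π i))) (h2 : T.π (T.π (T.π i)) = i)
    (h3 : ∀ t, T.f (C.sp (T.π (T.π i))) (T.f (C.sp (T.π i)) (T.f (C.sp i) t)) = t) (hs : ∀ r ∈ Rp T i, ∃ j, r = C.sp j) :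
    Lv T i (SL2Sys.prod (comm3 he h1 h1')) (RingHom.id F) :=
  ⟨fun t => ⟨mul_mem (S.x_mem_U (sp_Rp i) t) (σ_Rp (mul_mem (S.x_mem_U (sp_Rp i) t) (σ_Rp (S.x_mem_U (sp_Rp i) t)))), by
      simp only [sysR, SL2Sys.map, SL2Sys.prod, MulEquiv.coe_toMonoidHom, σ_sp he, map_mul, h2, h3]
      rw [← mul_assoc, ((h1.comm _ _).1.mul_right (h1'.comm _ _).1).eq]⟩,
    fun t => ⟨mul_mem (S.x_mem_U (sp_Rm i) t) (σ_Rm (mul_mem (S.x_mem_U (sp_Rm i) t) (σ_Rm (S.x_mem_U (sp_Rm i) t)))), by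
      simp only [sysR, SL2Sys.map, SL2Sys.prod, MulEquiv.coe_toMonoidHom, σ_sp he, map_mul, h2, h3]
      rw [← mul_assoc, ((h1.comm _ _).2.2.2.mul_right (h1'.comm _ _).2.2.2).eq]⟩,
    fun t ht => by
      rw [SL2Sys.prod_w, SL2Sys.map_w, SL2Sys.prod_w, SL2Sys.map_w, ← Units.val_mk0 ht, sysR_w]
      exact mul_mem (S.n_mem _ _) (T.σ_N (mul_mem (S.n_mem _ _) (T.σ_N (S.n_mem _ _)))),
    hs, fun t => by
      simp only [sysR, SL2Sys.map, SL2Sys.prod, MulEquiv.coe_toMonoidHom, σ_sp he, map_mul]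
      have a := fun j t => S.x_mem_Up (C.pos_sp j) t
      rw [TwM.cd_sp_mul i (a _ _) (mul_mem (a _ _) (a _ _)), TwM.cd_sp_mul i (a _ _) (a _ _), S.cd_x_self, S.cd_x_ne h1.ne,
        S.cd_x_ne h1'.ne, add_zero, add_zero]; rfl,
    fun u _ _ => ⟨_, rfl⟩⟩

namespace Lv

variable (h : Lv T b L ι) (hK : T.Good K)
include h

theorem x_inj {t u : E} (e : L.x t = L.x u) : t = u := ι.injective (by rw [← h.hc, e, h.hc])

theorem y_ne {t : E} (ht : t ≠ 0) : L.y t ≠ 1 := fun e => by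
  have h1 := L.w_y one_ne_zero t
  rw [e, mul_one, mul_inv_cancel, ← L.x_zero] at h1
  exact ht (by simpa using h.x_inj h1)

include hK

theorem x_mem (t : E) : L.x t ∈ T.Xp K b := ⟨(h.hx t).1, hK.up _ (S.U_le_Up (fun _ h => h.1) (h.hx t).1) (h.hx t).2⟩
theorem y_mem (t : E) : L.y t ∈ T.Xm K b := ⟨(h.hy t).1, hK.um _ (S.U_le_Um (fun _ h => h.1) (h.hy t).1) (h.hy t).2⟩
theorem w_mem (t : E) : L.w t ∈ K := mul_mem (mul_mem (h.x_mem hK t).2 (h.y_mem hK _).2) (h.x_mem hK t).2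

theorem over_w {t : E} (ht : t ≠ 0) : S.Over (L.w t) (sw T b) :=
  over_sw (h.hx t).1 (h.hy _).1 (h.hx t).1 (h.y_ne (by simpa)) (h.hN t ht) (hK.fix _ (h.w_mem hK t))

theorem h_mem {t : E} (ht : t ≠ 0) : L.h t ∈ S.H :=
  Sys.Over.mem_H (sw_sw (T := T) b ▸ (h.over_w hK ht).mul (h.over_w hK (by simp)))

theorem h_memK (t : E) : L.h t ∈ K := mul_mem (h.w_mem hK t) (h.w_mem hK _)

theorem mem_Xp {u : G} (hu : u ∈ T.Xp K b) : ∃ t, u = L.x t := by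
  obtain ⟨t, ht⟩ := h.hψ u hu.1 (hK.fix _ hu.2)
  have h5 := eq_one_of_cd_sp h.hs (mul_mem (h.hx (-t)).1 hu.1) (hK.fix _ (mul_mem (h.x_mem hK _).2 hu.2)) (by
    rw [TwM.cd_sp_mul b (Stb.Xp_le_Up b (h.x_mem hK _)) (Stb.Xp_le_Up b hu), h.hc, ← ht, map_neg, neg_add_cancel])
  rw [L.x_neg, inv_mul_eq_one] at h5
  exact ⟨t, h5.symm⟩

theorem mem_Xm {u : G} (hu : u ∈ T.Xm K b) : ∃ t, u = L.y t := by
  obtain ⟨t, ht⟩ := h.mem_Xp hK (Stb.conj_Xm (inv_mem (h.w_mem hK 1)) (Stb.over_w0_inv (h.over_w hK one_ne_zero)) hu)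
  exact ⟨_, by rw [← L.w_x one_ne_zero t, ← ht]; group⟩

omit hK in
theorem fix_Rp {w : Perm (Rt D)} (h0 : T.cj w = w) (h1 : w (C.sp b) = C.sp b) : ∀ r ∈ Rp T b, w r = r := by
  intro r hr
  obtain ⟨j, rfl⟩ := h.hs r hr
  have h2 : T.Stable {j | w (C.sp j) = C.sp j} := fun j => by
    simp only [Set.mem_ofPred_eq]
    rw [← T.sp, ← h0, T.cj_apply, T.ρ.injective.eq_iff, h0]
  exact (h2.orb_iff (C.inJ_sp.1 hr.2)).2 h1

theorem exists_act {n : G} {w : Perm (Rt D)} (hn : n ∈ K) (hw : S.Over n w) (h1 : w (C.sp b) = C.sp b) :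
    ∃ c : Eˣ, (∀ t, n * L.x t * n⁻¹ = L.x (c * t)) ∧ ∀ t, n * L.y t * n⁻¹ = L.y ((c⁻¹ : Eˣ) * t) := by
  have h0 := Stb.cj_eq_of_cell (hK.fix n hn) hw.cell
  have h2 := h.fix_Rp h0 h1
  obtain ⟨c, hc⟩ := hw.acts (C.sp b)
  have h3 : ∀ t, ∃ s, n * L.x t * n⁻¹ = L.x s ∧ ι s = c * ι t := fun t => by
    obtain ⟨s, hs⟩ := h.mem_Xp hK (u := n * L.x t * n⁻¹) ⟨hw.acts.conj_mem (fun r hr => by rwa [h2 r hr]) (h.hx t).1,
      K.mul_mem (K.mul_mem hn (h.x_mem hK t).2) (K.inv_mem hn)⟩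
    have := S.cd_conj_acts hw.acts hw.mem_Aut (f := Cert.lev ∅) zero_le_one (fun r hr => Sys.ht_pos hr)
      (by rw [Sys.ht_sp]; omega) hc (Stb.Xp_le_Up b (h.x_mem hK t))
    exact ⟨s, hs, by rwa [h1, hs, h.hc, h.hc] at this⟩
  obtain ⟨e, -, he⟩ := h3 1
  rw [map_one, mul_one] at he
  have h4 : e ≠ 0 := by rintro rfl; exact c.ne_zero (by rw [← he, map_zero])
  have h5 : ∀ t, n * L.x t * n⁻¹ = L.x (e * t) := fun t => by
    obtain ⟨s, h5, h6⟩ := h3 t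
    rw [h5, ι.injective (h6.trans (by rw [map_mul, he]) : ι s = ι (e * t))]
  obtain ⟨s, hs⟩ := h.mem_Xm hK (u := n * L.y (-1) * n⁻¹) ⟨hw.acts.conj_mem (fun r hr => by
    have := h2 r.rev ⟨(C.pos_rev_iff r).2 hr.1, C.inJ_rev.2 hr.2⟩
    rw [Cert.Aut.map_rev hw.mem_Aut] at this
    rwa [Fin.rev_injective this]) (h.hy _).1, K.mul_mem (K.mul_mem hn (h.y_mem hK _).2) (K.inv_mem hn)⟩
  have h6 : s ≠ 0 := by
    rintro rfl
    exact h.y_ne (by simp) (conj_eq_one_iff.1 (hs.trans L.y_zero))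
  have h7 : n * L.w 1 * n⁻¹ = L.x e * L.y s * L.x e := by
    rw [← hs, ← mul_one e, ← h5, SL2Sys.w, inv_one]; group
  have h8 := (hw.mul (h.over_w hK one_ne_zero)).mul hw.inv
  rw [conj_sw hw.mem_W h0 (j := b) fun r hr => by rwa [h2 r hr]] at h8
  have h9 := (Sys.nfU_unique h8 (h.over_w hK (t := -s⁻¹) (by simpa)) (Stb.Xp_le_Up b (h.x_mem hK (-e)))
    (Stb.Xp_le_Up b (h.x_mem hK s⁻¹)) ((Uw_sw b).ge (h.hx (-e)).1) ((Uw_sw b).ge (h.hx s⁻¹).1) (by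
      rw [h7, SL2Sys.w, L.x_neg, L.x_neg]; simp [mul_assoc])).2.1
  have h10 : n * L.w 1 * n⁻¹ = L.w e := by rw [h7, SL2Sys.w, ← inv_neg, h.x_inj h9, inv_inv]
  refine ⟨Units.mk0 e h4, h5, fun t => ?_⟩
  calc _ = (n * L.w 1 * n⁻¹) * (n * L.x (-t) * n⁻¹) * (n * L.w 1 * n⁻¹)⁻¹ := by
        rw [show L.y t = L.w 1 * L.x (-t) * (L.w 1)⁻¹ by rw [L.w_x one_ne_zero]; simp]; group
    _ = _ := by rw [h10, h5, L.w_x h4]; congr 1; simp; field_simp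

end Lv

variable [Finite E]

theorem ψ_X (t : E) : L.fromSL2 (sl2X E t) = L.x t := L.fromSL2_x t
theorem ψ_Y (t : E) : L.fromSL2 (sl2Y E t) = L.y t := L.fromSL2_y t
theorem ψ_w (t : E) : L.fromSL2 ((sl2Std E).w t) = L.w t := by
  simp only [SL2Sys.w, map_mul, L.fromSL2_x, L.fromSL2_y]
theorem ψ_h (t : E) : L.fromSL2 ((sl2Std E).h t) = L.h t := by simp only [SL2Sys.h, map_mul, ψ_w]

omit [Finite E] in
theorem h_val {t : E} (ht : t ≠ 0) : ((sl2Std E).h t).1 = !![t, 0; 0, t⁻¹] := sl2Std_h ht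
omit [Finite E] in
theorem w_val {t : E} (ht : t ≠ 0) : ((sl2Std E).w t).1 = !![0, t; -t⁻¹, 0] := sl2Std_w ht

variable (L) in
/-- the action on the Levi subgroup -/
def Ac (n : G) (c : Eˣ) : Prop := ∀ M, n * L.fromSL2 M * n⁻¹ = L.fromSL2 (dgc c M)

theorem Ac.mul_eq {n : G} {c : Eˣ} (h : Ac L n c) (M : SLT E) : n * L.fromSL2 M = L.fromSL2 (dgc c M) * n := by
  rw [← h]; group

theorem Ac.mul {n m : G} {c d : Eˣ} (h : Ac L n c) (h' : Ac L m d) : Ac L (n * m) (c * d) := fun M => by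
  rw [← dgc_dgc, ← h, ← h']; group

theorem Ac.inv {n : G} {c : Eˣ} (h : Ac L n c) : Ac L n⁻¹ c⁻¹ := fun M => by
  have := h (dgc c⁻¹ M)
  rw [dgc_dgc, mul_inv_cancel, dgc_one] at this
  rw [← this]; group

theorem ac_of {n : G} {c : Eˣ} (h1 : ∀ t, n * L.x t * n⁻¹ = L.x (c * t))
    (h2 : ∀ t, n * L.y t * n⁻¹ = L.y ((c⁻¹ : Eˣ) * t)) : Ac L n c :=
  DFunLike.congr_fun (MonoidHom.eq_of_eqOn_dense sl2Std_closure
    (f := (MulAut.conj n).toMonoidHom.comp L.fromSL2) (g := L.fromSL2.comp (dgc c)) (by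
      rintro _ (⟨t, rfl⟩ | ⟨t, rfl⟩)
      · exact (congrArg (n * · * n⁻¹) (ψ_X t)).trans ((h1 t).trans ((ψ_X _).symm.trans (congrArg _ (dgc_X c t).symm)))
      · exact (congrArg (n * · * n⁻¹) (ψ_Y t)).trans ((h2 t).trans ((ψ_Y _).symm.trans (congrArg _ (dgc_Y c t).symm)))))

namespace Lv

variable (h : Lv T b L ι) (hK : T.Good K)
include h hK

theorem exists_ac {n : G} {w : Perm (Rt D)} (hn : n ∈ K) (hw : S.Over n w) (h1 : w (C.sp b) = C.sp b) : ∃ c, Ac L n c :=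
  (h.exists_act hK hn hw h1).imp fun _ h => ac_of h.1 h.2

theorem ac_H {n : G} (hn : n ∈ K) (hw : n ∈ S.H) {c : Eˣ} (hc : (S.chi n (C.sp b) : F) = ι c) : Ac L n c := by
  obtain ⟨d, h1, h2⟩ := h.exists_act hK hn (Sys.over_of_mem_H hw) rfl
  have := cd_sp_conj hw (Stb.Xp_le_Up b (h.x_mem hK 1)) b
  rw [h1, h.hc, h.hc, hc, map_one, mul_one, mul_one] at this
  exact (Units.ext (ι.injective this) : d = c) ▸ ac_of h1 h2

theorem ψ_mem (M : SLT E) : L.fromSL2 M ∈ Lk T K b := by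
  have : (Lk T K b).comap L.fromSL2 = ⊤ := eq_top_iff.2 (sl2Std_closure.ge.trans <| (Subgroup.closure_le _).2 (by
    rintro _ (⟨t, rfl⟩ | ⟨t, rfl⟩)
    · exact Subgroup.mem_comap.2 ((L.fromSL2_x t).symm ▸ Xp_le_Lk (h.x_mem hK t))
    · exact Subgroup.mem_comap.2 ((L.fromSL2_y t).symm ▸ Xm_le_Lk (h.y_mem hK t))))
  exact this.ge (Subgroup.mem_top M)

theorem ψ_mem_B {M : SLT E} (h1 : M.1 1 0 = 0) : L.fromSL2 M ∈ S.B ∧ (M.1 0 1 = 0 → L.fromSL2 M ∈ S.H) := by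
  have h2 := sl_det M
  rw [h1, mul_zero, sub_zero] at h2
  have h3 := left_ne_zero_of_mul_eq_one h2
  have e : M = (sl2Std E).h (M.1 0 0) * sl2X E (M.1 1 1 * M.1 0 1) := sl_ext (by
    rw [sl_mul_val, h_val h3, X_val]
    refine m2_ext ?_ ?_ ?_ ?_ <;> simp [h1, eq_inv_of_mul_eq_one_right h2, h3])
  constructor
  · rw [e, map_mul, ψ_h, ψ_X]
    exact mul_mem (S.H_le_B (h.h_mem hK h3)) (S.Up_le_B (Stb.Xp_le_Up b (h.x_mem hK _)))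
  · intro h4
    rw [e, h4, mul_zero, map_mul, ψ_h, ψ_X, L.x_zero, mul_one]
    exact h.h_mem hK h3

theorem decomp {l : G} (hl : l ∈ Lk T K b) : ∃ z ∈ K, z ∈ S.H ∧ ∃ M, l = z * L.fromSL2 M := by
  obtain ⟨w, hw, u, hu, m, hm, u', hu', rfl⟩ := S.mem_L_iff.1 hl.1
  obtain ⟨h2, h3, -, h4⟩ := Stb.nf_fix (S.U_le_Up (fun _ h => h.1) hu) hm hu' (hK.fix _ hl.2)
  have h5 := hK.up u (S.U_le_Up (fun _ h => h.1) hu) h3
  have h6 := hK.up u' (S.Uw_le_Up _ hu') h4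
  have h7 : m ∈ K := (mul_mem_cancel_left h5).1 ((mul_mem_cancel_right h6).1 hl.2)
  obtain ⟨t, rfl⟩ := h.mem_Xp hK ⟨hu, h5⟩
  obtain ⟨s, rfl⟩ := h.mem_Xp hK ⟨S.U_mono (fun r hr => by
    exact ⟨hr.1, by_contra fun h => hr.2 (Cert.pos_map_of_not_inJ hw hr.1 h)⟩) hu', h6⟩
  obtain ⟨z, hz, hz', M, rfl⟩ : ∃ z ∈ K, z ∈ S.H ∧ ∃ M, m = z * L.fromSL2 M := by
    by_cases e : w = 1
    · exact ⟨m, h7, (e ▸ hm).mem_H, 1, by simp⟩
    · exact ⟨_, mul_mem h7 (inv_mem (h.w_mem hK 1)), (Stb.eq_w0_orb hw h2 e ▸ hm).mul_inv_mem_H (h.over_w hK one_ne_zero),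
        (sl2Std E).w 1, by rw [ψ_w]; group⟩
  obtain ⟨c, hc⟩ := h.exists_ac hK (inv_mem hz) (Sys.over_of_mem_H (inv_mem hz')) rfl
  exact ⟨z, hz, hz', dgc c (sl2X E t) * M * sl2X E s, by rw [map_mul, map_mul, ← hc, ψ_X, ψ_X]; group⟩

end Lv

end Cfsg.Agent.TwC
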