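import Cfsg.Agent.TwC.Core
import Cfsg.Agent.GenE.Tw

/-!
Tools for checking the hypotheses of the class square theorem.
-/

set_option autoImplicit false

namespace Cfsg.Agent.TwC

open Cfsg.Lie Cfsg.Lie.ChevalleyDatum Cfsg.Agent.Chev Cfsg.Agent.Tw Cfsg.Agent.TwM Equiv Cfsg.Agent.Stein Cfsg.Agent.SL2

variable {D : ChevalleyDatum} {C : Cert D} {F : Type*} [Field F] {G : Type*} [Group G] {S : Sys C F G}
  {T : Stb S} {K : Subgroup G} {a b : Nd D} {E : Type*} [Field E] {L : SL2Sys E G} {ι : E →+* F}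

theorem mem_U_of_comm {A : Set (Rt D)} (hA : C.Closed A) (hN : C.Nil A) {u c : G} (hu : u ∈ S.U A) (hc : c ∈ S.H)
    (h : u * c = c * u) : u ∈ S.U (A ∩ {r | S.chi c r = 1}) := by
  obtain ⟨w, hw, h1⟩ := hN
  obtain ⟨m, hm⟩ := S.exists_over hw
  have h2 := Lang.mem_U_of_commute (hA.preimage (inv_mem hm.mem_Aut)) (fun r hr => by simpa using h1 _ hr)
    (hm.acts.conj_mem (T' := ⇑w⁻¹ ⁻¹' A) (fun r hr => by simpa using hr) hu) (S.N_conj_H hm.mem_N hc) (by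
      calc _ = m * (c * u * c⁻¹) * m⁻¹ := by group
        _ = _ := by rw [← h]; group)
  simpa [mul_assoc] using hm.acts.inv_conj_mem (T' := A ∩ {r | S.chi c r = 1}) (fun r hr => ⟨hr.1, by
    have := Sys.chi_conj hm hc (w⁻¹ r)
    rw [show w (w⁻¹ r) = r by simp] at this
    exact this.symm.trans hr.2⟩) h2

theorem fpf_of_pow {x c : G} {k : ℕ} (hc : c ∈ S.H) (h : x ^ k = c) {A B : Set (Rt D)}
    (hA : ∀ r, ¬ C.InJ (T.orb b) r → S.chi c r = 1 → (C.Pos r → r ∈ A) ∧ (¬ C.Pos r → r ∈ B))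
    (h1 : ∀ u ∈ S.U A, u * x = x * u → u = 1) (h2 : ∀ u ∈ S.U B, u * x = x * u → u = 1) : Fpf T K b x := by
  have e : ∀ u, u * x = x * u → u * c = c * u := fun u hu => h ▸ (Commute.pow_right hu k).eq
  exact ⟨fun u hu h3 => h1 u (S.U_mono (fun r hr => (hA r hr.1.2 hr.2).1 hr.1.1) (mem_U_of_comm (Cert.closed_radical _)
      (Cert.nil_of_pos fun _ h => h.1) hu.1 hc (e u h3))) h3,
    fun u hu h3 => h2 u (S.U_mono (fun r hr => (hA r (neg_lev_iff.1 hr.1).2 hr.2).2 (neg_lev_iff.1 hr.1).1)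
      (mem_U_of_comm (Cert.closed_ge _ zero_le_one) (Cert.nil_of_neg fun _ h => (neg_lev_iff.1 h).1) hu.1 hc (e u h3))) h3⟩

theorem fpf_of_pow' {x c : G} {k : ℕ} (hc : c ∈ S.H) (h : x ^ k = c) (hA : ∀ r, ¬ C.InJ (T.orb b) r → S.chi c r ≠ 1) :
    Fpf T K b x :=
  fpf_of_pow hc h (A := ∅) (B := ∅) (fun r h1 h2 => (hA r h1 h2).elim) (fun u hu _ => by simpa [S.U_empty] using hu)
    fun u hu _ => by simpa [S.U_empty] using hu

theorem IsM.conj {m ξ c : G} (h : IsM T K a m ξ) (hc : c ∈ K) (hc' : c ∈ S.H) : IsM T K a (c * m * c⁻¹) (c * ξ * c⁻¹) := by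
  obtain ⟨h1, h2, h3, u, hu, u', hu', e⟩ := h
  exact ⟨mul_mem (mul_mem hc h1) (inv_mem hc), (h2.H_mul hc').mul_H (inv_mem hc'),
    ⟨Sys.H_conj_U hc' h3.1, K.mul_mem (K.mul_mem hc h3.2) (K.inv_mem hc)⟩, _, Stb.conj_Xp_H hc hc' hu, _,
    Stb.conj_Xp_H hc hc' hu', by rw [e]; group⟩

theorem conj_h (hφ : Function.Injective S.φ) {m : G} {w : Perm (Rt D)} (hm : S.Over m w) (r : Rt D) (t : Fˣ) :
    m * S.h r t * m⁻¹ = S.h (w r) t :=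
  S.eq_of_chi hφ (S.N_conj_H hm.mem_N (S.h_mem _ _)) (S.h_mem _ _) fun i => by
    obtain ⟨s, hs⟩ := w.surjective (C.sp i)
    rw [← hs, Sys.chi_conj hm (S.h_mem _ _), S.chi_h, S.chi_h, Cert.Aut.A_map hm.mem_Aut]

theorem h_rev (hφ : Function.Injective S.φ) (r : Rt D) (t : Fˣ) : S.h r.rev t = (S.h r t)⁻¹ :=
  S.eq_of_chi hφ (S.h_mem _ _) (inv_mem (S.h_mem _ _)) fun i => by
    rw [Sys.chi_inv (S.h_mem _ _), S.chi_h, S.chi_h, C.A_rev_left, zpow_neg]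

theorem Lv.isM (h : Lv T a L ι) (hK : T.Good K) {t : E} (ht : t ≠ 0) : IsM T K a (L.w t) (L.y (-t⁻¹)) :=
  ⟨h.w_mem hK t, h.over_w hK ht, h.y_mem hK _, _, inv_mem (h.x_mem hK t), _, inv_mem (h.x_mem hK t), by
    rw [SL2Sys.w]; group⟩

theorem sw_apply {f : ℕ → ℕ → ℕ} (hf : ∀ (i : Nd D) (r : Rt D), (C.ss i r : ℕ) = f i r) {i : Nd D} {u : List ℕ}
    (h : sw T i = C.wd (Cert.toNd D u)) (r : Rt D) : (sw T i r : ℕ) = actN f ((Cert.toNd D u).map Fin.val) r := by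
  rw [h, Cert.wd_table hf]

theorem tr_one {r : Rt D} (hr : C.Pos r ∧ ¬ C.InJ (T.orb b) r) {t : Fˣ} (h1 : S.x r t ∈ K) (h2 : S.x r.rev (-(t⁻¹ : Fˣ)) ∈ K) :
    Tr T K b (S.n r t) 1 :=
  ⟨_, ⟨S.x_mem_U hr _, h1⟩, _, ⟨S.x_mem_U (neg_lev_iff.2 ⟨C.not_pos_rev hr.1, fun h => hr.2 (C.inJ_rev.1 h)⟩) _, h2⟩, _,
    ⟨S.x_mem_U hr _, h1⟩, by rw [mul_one]; rfl⟩

theorem final {M : Type*} [Group M] (e : K ≃* M) {x : G} (hx : x ∈ K) (h : ∀ g ∈ K, g ≠ 1 → Sq K x g) {P : ℕ → Prop}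
    (hP : P (orderOf x)) : ∃ x : M, P (orderOf x) ∧ ∀ g : M, g ≠ 1 → ∃ u v : M, g = (u * x * u⁻¹) * (v * x * v⁻¹) := by
  refine ⟨e ⟨x, hx⟩, by rwa [MulEquiv.orderOf_eq, Subgroup.orderOf_mk], fun g hg => ?_⟩
  obtain ⟨g, rfl⟩ := e.surjective g
  obtain ⟨u, hu, v, hv, h1⟩ := h g g.2 (by simpa using hg)
  exact ⟨e ⟨u, hu⟩, e ⟨v, hv⟩, by simp only [← map_mul, ← map_inv]; exact congrArg e (Subtype.ext h1)⟩

theorem not_dvd_order [Finite F] (hφ : Function.Injective S.φ) (p : ℕ) [Fact p.Prime] [CharP F p] {x : G} {k : ℕ}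
    (h : x ^ k ∈ S.H) (hk : ¬ p ∣ k) : ¬ p ∣ orderOf x := fun e => by
  have h1 := S.pow_card_sub_one hφ h
  rw [← pow_mul] at h1
  rcases (Nat.Prime.dvd_mul Fact.out).1 (e.trans (orderOf_dvd_of_pow_eq_one h1)) with h2 | h2
  · exact hk h2
  · exact (Nat.Prime.coprime_iff_not_dvd Fact.out).1 (Sys.coprime_card_sub_one F p) h2

variable [Finite E]

theorem Lv.ac_unique (h : Lv T b L ι) {n : G} {c d : Eˣ} (h1 : Ac L n c) (h2 : Ac L n d) : c = d := by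
  have := (h1 (sl2X E 1)).symm.trans (h2 _)
  rw [dgc_X, dgc_X, ψ_X, ψ_X] at this
  exact Units.ext (by simpa using h.x_inj this)

theorem Lv.chi_of_ac (h : Lv T b L ι) (hK : T.Good K) {n : G} (hn : n ∈ K) (hw : n ∈ S.H) (hc : Ac L n 1) :
    ∀ j ∈ T.orb b, S.chi n (C.sp j) = 1 := by
  have h1 : T.Stable {j | S.chi n (C.sp j) = 1} := fun j => by
    have := Stb.chi_σ (T := T) hw (C.sp j)
    rw [hK.fix n hn, T.sp] at this
    rw [Set.mem_ofPred_eq, Set.mem_ofPred_eq, this, Units.ext_iff, Units.ext_iff, Stb.fu_val, Units.val_one,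
      map_eq_one_iff _ (T.f _).injective]
  have h2 := cd_sp_conj hw (Stb.Xp_le_Up b (h.x_mem hK 1)) b
  rw [← ψ_X, hc, dgc_one, ψ_X, h.hc, map_one, mul_one] at h2
  exact fun j hj => (h1.orb_iff hj).2 (Units.ext h2.symm)

theorem Ac.commute {n : G} (h : Ac L n 1) (M : SLT E) : Commute (L.fromSL2 M) n := by
  have := h.mul_eq M
  rw [dgc_one] at this
  exact this.symm

theorem ac_one : Ac L 1 1 := fun M => by simp [dgc_one]

theorem Lv.sq_one (h : Lv T b L ι) (hK : T.Good K) {y : SLT E} (hy : y.1.trace ^ 2 ≠ 4) {c : G} (hc : Ac L c 1) :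
    Sq (Lk T K b) (L.fromSL2 y * c) (c * c) := by
  obtain ⟨P, hP⟩ := isConj_iff.1 (sl_isConj_of_trace hy (sl_trace_inv y).symm)
  refine ⟨1, one_mem _, _, h.ψ_mem hK P, ?_⟩
  rw [← mul_assoc (L.fromSL2 P), mul_assoc _ c, ← map_inv, ← (hc.commute _).eq, ← mul_assoc (L.fromSL2 P * _), ← map_mul,
    ← map_mul, hP, map_inv, (hc.commute _).eq]
  group

theorem Lv.tr_of_two [Finite F] [CharP F 2] (h : Lv T b L ι) (hK : T.Good K) (hφ : Function.Injective S.φ)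
    (h0 : ∀ r, C.w0 Set.univ r = r.rev) (hd : (C.w0 Set.univ * sw T b) (C.sp b) = C.sp b) {m : G} (hm : m ∈ K)
    (h1 : S.Over m (C.w0 Set.univ * sw T b)) (h2 : m * m = 1) :
    Ac L m 1 ∧ ∀ η ∈ K, η ∈ S.H → Ac L η 1 → ∃ c ∈ K, c ∈ S.H ∧ Ac L c 1 ∧ m * η = c * m * c⁻¹ := by
  have : Fact (Nat.Prime 2) := ⟨Nat.prime_two⟩
  obtain ⟨e, he⟩ := h.exists_ac hK hm h1 hd
  have h4 : e = 1 := by
    have h4 := congrArg (fun t : Eˣ => ι t) (h.ac_unique (he.mul he) (h2 ▸ ac_one))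
    simp only [Units.val_mul, map_mul, Units.val_one, map_one, mul_self_eq_one_iff, CharTwo.neg_eq, or_self] at h4
    exact Units.ext (ι.injective (h4.trans (map_one ι).symm))
  subst h4
  refine ⟨he, fun η h4 h5 h6 => ?_⟩
  obtain ⟨k, hk⟩ := Nat.coprime_two_left.1 (Sys.coprime_card_sub_one F 2)
  have h7 := S.pow_card_sub_one hφ h5
  have h8 := Stb.conj_H_of_neg hφ (h1.mul (h.over_w hK one_ne_zero)) (by rwa [mul_assoc, sw_sw, mul_one]) h5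
  rw [← ψ_w, mul_assoc m, (h6.commute _).eq, mul_inv_rev, ← mul_assoc, mul_assoc m, mul_inv_cancel_right] at h8
  refine ⟨_, pow_mem h4 k, pow_mem h5 k, fun M => by rw [dgc_one, ← ((h6.commute M).pow_right k).eq]; group, ?_⟩
  have h9 : m * η ^ k * m⁻¹ = (η ^ k)⁻¹ := by rw [← conj_pow, h8, inv_pow]
  rw [hk, pow_succ, mul_eq_one_iff_inv_eq] at h7
  calc m * η = m * (η ^ k)⁻¹ * m⁻¹ * m * (η ^ k)⁻¹ := by nth_rw 1 [← h7]; group
    _ = _ := by rw [← conj_inv, h9, inv_inv]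

theorem hC_of {m : G} (hm : m ∈ K) (h1 : S.Over m (C.w0 Set.univ * sw T b)) (h3 : Tr T K b m 1)
    (h4 : Ac L m 1 ∧ ∀ η ∈ K, η ∈ S.H → Ac L η 1 → ∃ c ∈ K, c ∈ S.H ∧ Ac L c 1 ∧ m * η = c * m * c⁻¹) :
    ∀ n ∈ K, S.Over n (C.w0 Set.univ * sw T b) → Ac L n 1 → Tr T K b n 1 := fun n hn hw hc => by
  obtain ⟨c, h5, h6, -, h7⟩ := h4.2 _ (mul_mem (inv_mem hm) hn) (h1.inv_mul_mem_H hw) (by simpa using h4.1.inv.mul hc)
  simpa using h3.move (n' := n) (H_mem_Lk h5 h6) (inv_mem (H_mem_Lk h5 h6)) (one_mem _) (one_mem _) (by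
    rw [one_mul, mul_one, ← h7]; group)

theorem Lv.hC_two [Finite F] [CharP F 2] (h : Lv T b L ι) (hK : T.Good K) (hφ : Function.Injective S.φ)
    (h0 : ∀ r, C.w0 Set.univ r = r.rev) (hd : (C.w0 Set.univ * sw T b) (C.sp b) = C.sp b) {w : Perm (Rt D)} (hw : w ∈ C.W)
    (h1 : T.cj w = w) (h2 : w * sw T b * w⁻¹ = C.w0 Set.univ * sw T b)
    (h3 : ∀ r ∈ Rp T b, C.Pos (w r) ∧ ¬ C.InJ (T.orb b) (w r)) :
    ∀ n ∈ K, S.Over n (C.w0 Set.univ * sw T b) → Ac L n 1 → Tr T K b n 1 := by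
  obtain ⟨k, hk, h4⟩ := hK.ex_over w hw h1
  have h5 : S.Over (k * L.w 1 * k⁻¹) _ := h2 ▸ (h4.mul (h.over_w hK one_ne_zero)).mul h4.inv
  have h6 := mul_mem (mul_mem hk (h.w_mem hK 1)) (inv_mem hk)
  have h7 : k * L.x 1 * k⁻¹ ∈ Qp T K b :=
    ⟨h4.acts.conj_mem h3 (h.hx 1).1, K.mul_mem (K.mul_mem hk (h.x_mem hK 1).2) (K.inv_mem hk)⟩
  refine hC_of h6 h5 ⟨_, h7, k * L.y (-1⁻¹) * k⁻¹, ⟨h4.acts.conj_mem (fun r hr => neg_lev_iff.2 ?_) (h.hy _).1,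
    K.mul_mem (K.mul_mem hk (h.y_mem hK _).2) (K.inv_mem hk)⟩, _, h7, by rw [SL2Sys.w]; group⟩
    (h.tr_of_two hK hφ h0 hd h6 h5 ?_)
  · simpa [Cert.Aut.map_rev h4.mem_Aut, C.pos_rev_iff, C.inJ_rev] using h3 r.rev ⟨(C.pos_rev_iff _).2 hr.1, C.inJ_rev.2 hr.2⟩
  · have : (L.w 1)⁻¹ = L.w 1 := by
      rw [← L.w_neg, ι.injective (show ι (-1) = ι 1 by rw [map_neg, CharTwo.neg_eq])]
    nth_rw 1 [← this]
    group

end Cfsg.Agent.TwC
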