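import Cfsg.Agent.Tw.OutTw
import Cfsg.Agent.TwM.Rk1

/-!
Gauss decomposition relative to a parabolic subgroup of a twisted group of relative rank two.
-/

set_option autoImplicit false

namespace Cfsg.Agent.TwC

open Cfsg.Lie Cfsg.Lie.ChevalleyDatum Cfsg.Agent.Chev Cfsg.Agent.Tw Cfsg.Agent.TwM Equiv

variable {D : ChevalleyDatum} {C : Cert D} {F : Type*} [Field F] {G : Type*} [Group G] {S : Sys C F G}

theorem exists_conj_of_fpf (U : Subgroup G) [Finite U] {x : G}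
    (hx : ∀ u ∈ U, x * u * x⁻¹ ∈ U) (hf : ∀ u ∈ U, u * x = x * u → u = 1) {u : G} (hu : u ∈ U) :
    ∃ v ∈ U, u * x = v * x * v⁻¹ := by
  obtain ⟨v, hv⟩ := Finite.surjective_of_injective
    (f := fun v : U => (⟨v * (x * (v : G)⁻¹ * x⁻¹), U.mul_mem v.2 (hx _ (U.inv_mem v.2))⟩ : U))
    (fun v w h => by
      have h1 : (v : G) * (x * (v : G)⁻¹ * x⁻¹) = w * (x * (w : G)⁻¹ * x⁻¹) := congrArg Subtype.val h
      have := hf _ (U.mul_mem (U.inv_mem w.2) v.2) (by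
        calc (w : G)⁻¹ * v * x = (w : G)⁻¹ * (v * (x * (v : G)⁻¹ * x⁻¹)) * x * v := by group
          _ = _ := by rw [h1]; group)
      exact Subtype.ext (inv_mul_eq_one.mp this).symm) ⟨u, hu⟩
  have h1 : (v : G) * (x * (v : G)⁻¹ * x⁻¹) = u := congrArg Subtype.val hv
  exact ⟨v, v.2, by rw [← h1]; group⟩

/-- `g` is a product of two conjugates of `x` under `M` -/
def Sq (M : Subgroup G) (x g : G) : Prop := ∃ u ∈ M, ∃ v ∈ M, g = u * x * u⁻¹ * (v * x * v⁻¹)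

theorem Sq.conj {M : Subgroup G} {x g k : G} (hk : k ∈ M) (h : Sq M x (k * g * k⁻¹)) : Sq M x g := by
  obtain ⟨u, hu, v, hv, e⟩ := h
  refine ⟨_, mul_mem (inv_mem hk) hu, _, mul_mem (inv_mem hk) hv, ?_⟩
  calc g = k⁻¹ * (k * g * k⁻¹) * k := by group
    _ = _ := by rw [e]; group

theorem neg_lev_iff {J : Set (Nd D)} {r : Rt D} :
    1 ≤ (-Cert.lev J : (Nd D → ℤ) →ₗ[ℤ] ℤ) (C.rc r) ↔ ¬ C.Pos r ∧ ¬ C.InJ J r := by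
  rw [← C.pos_rev_iff, ← C.inJ_rev, ← Cert.lev_pos_iff, C.rc_neg, map_neg, LinearMap.neg_apply]; rfl

variable (T : Stb S) (K : Subgroup G)

/-- the unipotent radical -/
def Qp (b : Nd D) : Subgroup G := S.UJ (T.orb b) ⊓ K
/-- the opposite unipotent radical -/
def Qm (b : Nd D) : Subgroup G := S.U {r | 1 ≤ (-Cert.lev (T.orb b) : (Nd D → ℤ) →ₗ[ℤ] ℤ) (C.rc r)} ⊓ K
/-- the Levi subgroup -/
def Lk (b : Nd D) : Subgroup G := S.L (T.orb b) ⊓ K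
/-- the maximal unipotent subgroup -/
def Uk : Subgroup G := S.Up ⊓ K

variable {T K} {a b i : Nd D}

theorem conj_Qp {l q : G} (hl : l ∈ Lk T K b) (hq : q ∈ Qp T K b) : l * q * l⁻¹ ∈ Qp T K b :=
  ⟨S.P_conj_UJ (S.L_le_P _ hl.1) hq.1, K.mul_mem (K.mul_mem hl.2 hq.2) (K.inv_mem hl.2)⟩

theorem conj_Qm {l q : G} (hl : l ∈ Lk T K b) (hq : q ∈ Qm T K b) : l * q * l⁻¹ ∈ Qm T K b :=
  ⟨S.conj_ge _ one_pos (sup_le_sup_right (S.U_mono fun r hr => by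
      simp [Cert.lev_eq_zero_iff.2 hr]) _ hl.1) hq.1, K.mul_mem (K.mul_mem hl.2 hq.2) (K.inv_mem hl.2)⟩

theorem conj_Qp' {l q : G} (hl : l ∈ Lk T K b) (hq : q ∈ Qp T K b) : l⁻¹ * q * l ∈ Qp T K b := by
  simpa using conj_Qp (inv_mem hl) hq

theorem Xp_le_Lk : T.Xp K b ≤ Lk T K b := inf_le_inf_right _ (U_pos_le_L _)
theorem Xm_le_Lk : T.Xm K b ≤ Lk T K b := inf_le_inf_right _ (U_neg_le_L _)
theorem Xp_le_Uk : T.Xp K b ≤ Uk (S := S) K := fun _ h => ⟨Stb.Xp_le_Up b h, h.2⟩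
theorem Qp_le_Uk : Qp T K b ≤ Uk (S := S) K := inf_le_inf_right _ (S.UJ_le_Up _)
theorem H_mem_Lk {h : G} (hK : h ∈ K) (hh : h ∈ S.H) : h ∈ Lk T K b := ⟨S.H_le_L _ hh, hK⟩
theorem over_mem_Lk {m : G} (hK : m ∈ K) (hm : S.Over m (sw T b)) : m ∈ Lk T K b := ⟨hm.mem_L (C.w0_mem _), hK⟩

theorem split_U (hK : T.Good K) (b : Nd D) {u : G} (hu : u ∈ Uk (S := S) K) :
    ∃ q ∈ Qp T K b, ∃ x ∈ T.Xp K b, u = q * x := by
  obtain ⟨q, hq, x, hx, rfl⟩ := split_levi' (T.orb b) hu.1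
  obtain ⟨h1, h2⟩ := (T.stable_orb b).levi hq (U_pos_le_L _ hx) (hK.fix _ hu.2)
  exact ⟨q, ⟨hq, hK.up _ (S.UJ_le_Up _ hq) h1⟩, x, ⟨hx, hK.up _ (S.U_le_Up (fun _ h => h.1) hx) h2⟩, rfl⟩

theorem split_U' (hK : T.Good K) (b : Nd D) {u : G} (hu : u ∈ Uk (S := S) K) :
    ∃ x ∈ T.Xp K b, ∃ q ∈ Qp T K b, u = x * q := by
  obtain ⟨q, hq, x, hx, rfl⟩ := split_U hK b hu
  exact ⟨x, hx, _, conj_Qp' (Xp_le_Lk hx) hq, by group⟩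

theorem eq_one_of_Qm {v : G} (hv : v ∈ S.U {r | 1 ≤ (-Cert.lev (T.orb b) : (Nd D → ℤ) →ₗ[ℤ] ℤ) (C.rc r)})
    (hx : v ∈ S.U (Rm T b)) : v = 1 := by
  have := S.mem_inter (Cert.closed_ge _ zero_le_one) (Cert.nil_of_neg fun _ h => (neg_lev_iff.1 h).1) (closed_Rm b)
    (nil_Rm b) hv hx
  rw [← Subgroup.mem_bot, ← S.U_empty]
  exact S.U_mono (fun r h => (neg_lev_iff.1 h.1).2 h.2.2) this

theorem split_V (hK : T.Good K) (b : Nd D) {v : G} (hv : v ∈ S.Um) (hv' : v ∈ K) :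
    ∃ q ∈ Qm T K b, ∃ x ∈ T.Xm K b, v = q * x := by
  obtain ⟨q, hq, x, hx, rfl⟩ := S.split (T1 := {r | ¬ C.InJ (T.orb b) r}) (T2 := {r | C.InJ (T.orb b) r})
    Cert.closed_neg (Cert.nil_of_neg fun _ h => h) (fun r _ => (em _).symm) hv
  replace hq := S.U_mono (T' := {r | 1 ≤ (-Cert.lev (T.orb b) : (Nd D → ℤ) →ₗ[ℤ] ℤ) (C.rc r)})
    (fun r hr => neg_lev_iff.2 hr) hq
  have h0 := T.σ_U (B := {r | 1 ≤ (-Cert.lev (T.orb b) : (Nd D → ℤ) →ₗ[ℤ] ℤ) (C.rc r)}) (fun r hr => neg_lev_iff.2 (by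
    rw [T.pos, (T.stable_orb b).inJ]; exact neg_lev_iff.1 hr)) hq
  have h1 : q⁻¹ * T.σ q = x * (T.σ x)⁻¹ := by
    rw [inv_mul_eq_iff_eq_mul, ← mul_assoc, eq_mul_inv_iff_mul_eq, ← map_mul, hK.fix _ hv']
  have h2 := eq_one_of_Qm (mul_mem (inv_mem hq) h0) (h1 ▸ mul_mem hx (inv_mem (σ_Rm hx)))
  have h3 := hK.um q (S.U_le_Um (fun _ h => (neg_lev_iff.1 h).1) hq) (inv_mul_eq_one.1 h2).symm
  exact ⟨q, ⟨hq, h3⟩, x, ⟨hx, (mul_mem_cancel_left h3).1 hv'⟩, rfl⟩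

theorem split_P (hK : T.Good K) (hfix : ∀ g, T.σ g = g → g ∈ K) {p : G} (hp : p ∈ S.P (T.orb b)) (hp' : p ∈ K) :
    ∃ l ∈ Lk T K b, ∃ q ∈ Qp T K b, p = l * q := by
  obtain ⟨q, hq, l, hl, rfl⟩ := S.mem_P_levi.1 hp
  obtain ⟨h1, h2⟩ := (T.stable_orb b).levi hq hl (hK.fix _ hp')
  exact ⟨l, ⟨hl, hfix _ h2⟩, _, conj_Qp' ⟨hl, hfix _ h2⟩ ⟨hq, hfix _ h1⟩, by group⟩

theorem Xm_le_Qm (hab : a ∉ T.orb b) : T.Xm K a ≤ Qm T K b :=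
  inf_le_inf_right _ (S.U_mono fun r hr => neg_lev_iff.2 ⟨hr.1, fun h => C.not_inJ_empty r fun j _ => by
    by_cases e : j ∈ T.orb a
    · exact h j fun h1 => hab (Perm.SameCycle.trans h1 (Perm.SameCycle.symm e))
    · exact hr.2 j e⟩)

variable (T K) in
/-- the Levi component -/
def Tr (b : Nd D) (n l : G) : Prop := ∃ q₁ ∈ Qp T K b, ∃ v ∈ Qm T K b, ∃ q₂ ∈ Qp T K b, n = q₁ * v * l * q₂

theorem Tr.move {n n' l l' l'' q' q'' : G} (h : Tr T K b n l) (h1 : l' ∈ Lk T K b) (h2 : l'' ∈ Lk T K b)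
    (h3 : q' ∈ Qp T K b) (h4 : q'' ∈ Qp T K b) (e : n' = q' * l' * n * (l'' * q'')) : Tr T K b n' (l' * l * l'') := by
  obtain ⟨q₁, h5, v, h6, q₂, h7, e'⟩ := h
  exact ⟨_, mul_mem h3 (conj_Qp h1 h5), _, conj_Qm h1 h6, _, mul_mem (conj_Qp' h2 h7) h4, by rw [e, e']; group⟩

variable (T K) in
/-- fixed point free action on both radicals -/
def Fpf (b : Nd D) (x : G) : Prop :=
  (∀ u ∈ Qp T K b, u * x = x * u → u = 1) ∧ ∀ u ∈ Qm T K b, u * x = x * u → u = 1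

theorem Fpf.conj {x k : G} (h : Fpf T K b x) (hk : k ∈ Lk T K b) : Fpf T K b (k * x * k⁻¹) := by
  have e : ∀ u, u * (k * x * k⁻¹) = k * x * k⁻¹ * u → k⁻¹ * u * k⁻¹⁻¹ * x = x * (k⁻¹ * u * k⁻¹⁻¹) := fun u hu => by
    calc _ = k⁻¹ * (u * (k * x * k⁻¹)) * k := by group
      _ = _ := by rw [hu]; group
  exact ⟨fun u hu h1 => conj_eq_one_iff.1 (h.1 _ (conj_Qp (inv_mem hk) hu) (e u h1)),
    fun u hu h1 => conj_eq_one_iff.1 (h.2 _ (conj_Qm (inv_mem hk) hu) (e u h1))⟩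

theorem Tr.win [Finite G] {x n l l₁ q : G} (hx : x ∈ Lk T K b) (hf : Fpf T K b x) (h : Tr T K b n l)
    (h1 : l₁ ∈ Lk T K b) (hq : q ∈ Qp T K b) (h2 : Sq (Lk T K b) x (l * l₁)) : Sq K x (n * l₁ * q) := by
  obtain ⟨q₁, h5, v, h6, q₂, h7, rfl⟩ := h
  obtain ⟨k, hk, k', hk', e⟩ := h2
  have a1 := mul_mem (mul_mem hk hx) (inv_mem hk)
  have a2 := mul_mem (mul_mem hk' hx) (inv_mem hk')
  obtain ⟨y, hy, e1⟩ := exists_conj_of_fpf _ (fun u => conj_Qm a1) (hf.conj hk).2 h6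
  obtain ⟨y', hy', e2⟩ := exists_conj_of_fpf _ (fun u => conj_Qp a2) (hf.conj hk').1
    (conj_Qp a2 (mul_mem (mul_mem (conj_Qp' h1 h7) hq) h5))
  refine Sq.conj (inv_mem h5.2) ⟨_, mul_mem hy.2 hk.2, _, mul_mem hy'.2 hk'.2, ?_⟩
  calc _ = v * (l * l₁) * (l₁⁻¹ * q₂ * l₁ * q * q₁) := by group
    _ = v * (k * x * k⁻¹) * (k' * x * k'⁻¹ * (l₁⁻¹ * q₂ * l₁ * q * q₁) * (k' * x * k'⁻¹)⁻¹ * (k' * x * k'⁻¹)) := by
      rw [e]; group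
    _ = _ := by rw [e1, e2]; group

variable (T K) in
/-- the elements `m(ξ)` -/
def IsM (i : Nd D) (m ξ : G) : Prop :=
  m ∈ K ∧ S.Over m (sw T i) ∧ ξ ∈ T.Xm K i ∧ ∃ u ∈ T.Xp K i, ∃ u' ∈ T.Xp K i, ξ = u * m * u'

theorem exists_isM (hK : T.Good K) {ξ : G} (h : ξ ∈ T.Xm K i) (h1 : ξ ≠ 1) : ∃ m, IsM T K i m ξ := by
  obtain ⟨u, hu, m, h2, hm, u', hu', e⟩ := hK.cell_Xm h h1
  exact ⟨m, h2, hm, h, u, hu, u', hu', e⟩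

variable (S K) in
/-- triangular decomposition -/
def Tri (m v : G) : Prop := v ∈ S.Um ∧ v ∈ K ∧ ∃ y ∈ Uk (S := S) K, ∃ u ∈ Uk (S := S) K, m = y * v * u

theorem conj_Uk {n x : G} {w : Perm (Rt D)} (hn : n ∈ K) (hw : S.Over n w) (h0 : T.cj w = w) (hp : C.Pos (w (C.sp i)))
    (hx : x ∈ T.Xp K i) : n * x * n⁻¹ ∈ Uk (S := S) K :=
  ⟨hw.acts.conj_mem (fun r hr => by exact (pos_of_asc hw.mem_W h0 hp hr.2).2 hr.1) hx.1,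
    K.mul_mem (K.mul_mem hn hx.2) (K.inv_mem hn)⟩

theorem Tri.step (hK : T.Good K) {n v m ξ : G} {w : Perm (Rt D)} (h : Tri S K n v) (hn : n ∈ K) (hw : S.Over n w)
    (h0 : T.cj w = w) (hp : C.Pos (w (C.sp i))) (hm : IsM T K i m ξ) : Tri S K (n * m) (v * ξ) := by
  obtain ⟨h1, h2, y, hy, u, hu, e⟩ := h
  obtain ⟨h3, h4, h5, u₁, h6, u₂, h7, e'⟩ := hm
  obtain ⟨q, hq, x, hx, rfl⟩ := split_U hK i hu
  have h8 := conj_Uk hn hw h0 hp (mul_mem (inv_mem hx) h6)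
  refine ⟨mul_mem h1 (Stb.Xm_le_Um i h5), mul_mem h2 h5.2, _, mul_mem (inv_mem h8) hy, _,
    mul_mem (inv_mem (Xp_le_Uk h7)) (Qp_le_Uk (conj_Qp' (over_mem_Lk h3 h4) (conj_Qp' (Xp_le_Lk h6) hq))), ?_⟩
  calc n * m = (n * (x⁻¹ * u₁) * n⁻¹)⁻¹ * n * (x⁻¹ * u₁) * m := by group
    _ = _ := by nth_rw 3 [e]; rw [e']; group

theorem exists_tri (hK : T.BN K) {w : Perm (Rt D)} (hw : w ∈ C.W) (h0 : T.cj w = w) :
    ∃ m ∈ K, S.Over m w ∧ ∃ v, Tri S K m v := by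
  refine Stb.fix_induction (P := fun w => ∃ m ∈ K, S.Over m w ∧ ∃ v, Tri S K m v)
    ⟨1, one_mem _, S.over_one, 1, one_mem _, one_mem _, 1, one_mem _, 1, one_mem _, by simp⟩ ?_ hw h0
  rintro w - h1 i hi ⟨n, hn, h2, v, h3⟩
  obtain ⟨x, hx, h4⟩ := hK.ne i
  obtain ⟨k, h5, hk⟩ := hK.ex_orb i
  obtain ⟨m, hm⟩ := exists_isM hK.toGood (Stb.conj_Xp h5 hk hx) (by simpa using h4)
  exact ⟨_, mul_mem hn hm.1, h2.mul hm.2.1, _, h3.step hK.toGood hn h2 h1 (hi i (T.mem_orb i)) hm⟩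

variable (T K) in
/-- a triangular decomposition with non-trivial component at `b` -/
def Hr (b : Nd D) (w : Perm (Rt D)) : Prop := ∃ m ∈ K, S.Over m w ∧ ∃ v, Tri S K m v ∧ v ∉ Qm T K b

theorem hr_of_two (hK : T.BN K) (hab : a ∉ T.orb b) (hc : ∀ i, i ∈ T.orb a ∨ i ∈ T.orb b)
    (h2 : ∃ ξ ∈ T.Xm K b, ∃ ξ' ∈ T.Xm K b, ξ ≠ 1 ∧ ξ' ≠ 1 ∧ ξ ≠ ξ') {w : Perm (Rt D)} (hw : w ∈ C.W) (h0 : T.cj w = w)
    (h1 : w ∉ C.WJ (T.orb a)) : Hr T K b w := by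
  refine Stb.fix_induction (P := fun w => w ∉ C.WJ (T.orb a) → Hr T K b w) (fun h => (h (one_mem _)).elim) ?_ hw h0 h1
  intro w hw h0 i hi ih h1
  rcases hc i with h3 | h3
  · rw [Stb.orb_eq h3] at h1 hi ⊢
    obtain ⟨n, hn, h4, v, h5, h6⟩ := ih fun h => h1 (mul_mem h (C.w0_mem _))
    obtain ⟨x, hx, h7⟩ := hK.ne a
    obtain ⟨k, h8, hk⟩ := hK.ex_orb a
    obtain ⟨m, hm⟩ := exists_isM hK.toGood (Stb.conj_Xp h8 hk hx) (by simpa using h7)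
    exact ⟨_, mul_mem hn hm.1, h4.mul hm.2.1, _, h5.step hK.toGood hn h4 h0 (hi a (T.mem_orb a)) hm,
      fun h => h6 ((mul_mem_cancel_right (Xm_le_Qm hab hm.2.2.1)).1 h)⟩
  · rw [Stb.orb_eq h3] at hi ⊢
    obtain ⟨n, hn, h4, v, h5⟩ := exists_tri hK hw h0
    obtain ⟨ξ, h6, ξ', h7, h8, h9, h10⟩ := h2
    obtain ⟨m, hm⟩ := exists_isM hK.toGood h6 h8
    obtain ⟨m', hm'⟩ := exists_isM hK.toGood h7 h9
    by_cases e : v * ξ ∈ Qm T K b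
    · refine ⟨_, mul_mem hn hm'.1, h4.mul hm'.2.1, _, h5.step hK.toGood hn h4 h0 (hi b (T.mem_orb b)) hm', fun h => h10 ?_⟩
      exact inv_mul_eq_one.1 (eq_one_of_Qm (by simpa [mul_assoc] using (mul_mem (inv_mem e) h).1)
        (mul_mem (inv_mem h6) h7).1)
    · exact ⟨_, mul_mem hn hm.1, h4.mul hm.2.1, _, h5.step hK.toGood hn h4 h0 (hi b (T.mem_orb b)) hm, e⟩

theorem Tri.tr (hK : T.Good K) (b : Nd D) {m v : G} (h : Tri S K m v) :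
    ∃ x ∈ T.Xp K b, ∃ ξ ∈ T.Xm K b, ∃ x' ∈ T.Xp K b, Tr T K b m (x * ξ * x') ∧ (v ∉ Qm T K b → ξ ≠ 1) := by
  obtain ⟨h1, h2, y, hy, u, hu, rfl⟩ := h
  obtain ⟨q, hq, x, hx, rfl⟩ := split_U hK b hy
  obtain ⟨x', hx', q', hq', rfl⟩ := split_U' hK b hu
  obtain ⟨v, hv, ξ, hξ, rfl⟩ := split_V hK b h1 h2
  exact ⟨x, hx, ξ, hξ, x', hx', ⟨q, hq, _, conj_Qm (Xp_le_Lk hx) hv, q', hq', by group⟩, by
    rintro h rfl; exact h (by simpa using hv)⟩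

end Cfsg.Agent.TwC
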